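import Cfsg.Agent.H98.Held.Tables

/-!
Pruning of commuting sets: every elementary group of order 64 is conjugate to one of the two standard ones.
-/

set_option autoImplicit false
set_option maxRecDepth 100000

namespace Cfsg.Agent.H98.Held

/-- Commutation of codes. -/
noncomputable def commN (a b : ℕ) : Bool := Nat.beq (mm a b) (mm b a)

/-- The codes commuting with at least 63 of the list. -/
noncomputable def prune (L : List ℕ) : List ℕ :=
  L.filter fun w => Nat.ble 63 (L.countP fun v => commN w v)

/-- The involutions. -/
def invCodes : List ℕ := invTab.map Prod.fst

/-- The involutions commuting with a representative, of classes avoiding the two largest. -/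
noncomputable def startMid (k : ℕ) : List ℕ :=
  invCodes.filter fun w => commN w (rep k) && Nat.ble (cls w) 5

theorem prune_check : ((prune (invCodes.filter fun w => commN w (rep 6))).all fun w => aOne.any fun a => Nat.beq a w) = true ∧
    ((prune (invCodes.filter fun w => commN w (rep 7))).all fun w => aTwo.any fun a => Nat.beq a w) = true ∧
    prune (prune (prune (startMid 3))) = [] ∧ prune (prune (prune (startMid 5))) = [] := by
  decide +kernel

/-- The involutions in the core. -/
noncomputable def coreInv : List ℕ :=
  invCodes.filter fun w => Nat.ble (cls w) 2 || Nat.beq (cls w) 4

theorem core_check : (coreInv.all fun w => Nat.beq w zT || !(Nat.ble 63 (coreInv.countP fun v => commN w v))) = true := by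
  decide +kernel

end Cfsg.Agent.H98.Held
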