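import Cfsg.Agent.H98.Held.Blocks
import Cfsg.Agent.H98.Held.Prune

/-!
The two groups of order 64 are not conjugate, and conjugates of the central involution in each form one orbit of its
normaliser.
-/

set_option autoImplicit false
set_option linter.style.haveILetI false

namespace Cfsg.Agent.H98.Held

open Subgroup

attribute [local irreducible] mm sParam sIdx oneC zT sGens invTab aOne aTwo

theorem inv_ne : (invCodes.all fun a => !(Nat.beq a oneC)) = true := by decide +kernel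

theorem tab_sq {a : ℕ} (h : a ∈ invCodes) : mm a a = oneC := by
  obtain ⟨e, he, rfl⟩ := List.mem_map.1 h
  exact (tab_spec he).2.1

theorem le_or_le_of_cover {G : Type*} [Group G] {H X Y : Subgroup G} (h : ∀ x ∈ H, x ∈ X ∨ x ∈ Y) : H ≤ X ∨ H ≤ Y := by
  by_contra hne
  rw [not_or] at hne
  obtain ⟨a, ha, haX⟩ := SetLike.not_le_iff_exists.1 hne.1
  obtain ⟨b, hb, hbY⟩ := SetLike.not_le_iff_exists.1 hne.2
  have haY := (h a ha).resolve_left haX
  have hbX := (h b hb).resolve_right hbY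
  rcases h _ (mul_mem ha hb) with hh | hh
  · exact haX (by simpa using mul_mem hh (inv_mem hbX))
  · exact hbY (by simpa using mul_mem (inv_mem haY) hh)

namespace Emb

universe u

variable {G : Type u} [Group G] [Finite G] (B : Emb G)

theorem card_cent_dvd : Nat.card (centralizer ({B.z} : Set G)) ∣ 9999360 := by
  rw [← B.range, ← Nat.card_congr (MonoidHom.ofInjective B.inj).toEquiv, ← card_sl_five]
  exact Subgroup.card_subgroup_dvd_card _

/-- The subgroup of order `2 ^ 10` is a Sylow subgroup of the whole group. -/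
theorem exists_sylow : ∃ T : Sylow 2 G, (T : Subgroup G) = B.sg := by
  haveI : Fact (Nat.Prime 2) := ⟨Nat.prime_two⟩
  obtain ⟨T, hT⟩ := (IsPGroup.of_card (p := 2) B.card_sg).exists_le_sylow
  refine ⟨T, (Subgroup.eq_of_le_of_card_ge hT ?_).symm⟩
  obtain ⟨k, hk⟩ := IsPGroup.iff_card.1 T.2
  haveI : Nontrivial ↥(T : Subgroup G) := by
    rw [← Finite.one_lt_card_iff_nontrivial]
    have := Subgroup.card_le_of_le hT
    rw [B.card_sg] at this
    omega
  haveI := IsPGroup.center_nontrivial T.2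
  obtain ⟨⟨⟨x, hxT⟩, hxc⟩, hx1⟩ := exists_ne (1 : center ↥(T : Subgroup G))
  have hxne : x ≠ 1 := fun e => hx1 (Subtype.ext (Subtype.ext e))
  have hcom : ∀ y ∈ (T : Subgroup G), y * x = x * y := fun y hy =>
    congrArg Subtype.val (mem_center_iff.1 hxc ⟨y, hy⟩)
  have hxz : x = B.z := (B.cent_sg (mem_centralizer_iff.2 fun y hy => hcom y (hT hy))).resolve_left hxne
  have hTC : (T : Subgroup G) ≤ centralizer ({B.z} : Set G) := fun y hy =>
    mem_centralizer_singleton_iff.2 (hxz ▸ hcom y hy)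
  have h1 : 2 ^ k ∣ 2 ^ 10 * 9765 := by
    rw [← hk]
    exact (card_dvd_of_le hTC).trans (by norm_num; exact B.card_cent_dvd)
  have h2 : 2 ^ k ∣ 2 ^ 10 := (Nat.Coprime.pow_left k (by norm_num)).dvd_of_dvd_mul_right h1
  rw [B.card_sg, hk]
  exact Nat.le_of_dvd (by norm_num) h2

theorem conj_gA_ne {g : G} (h : B.gA.map (MulAut.conj g).toMonoidHom = B.gB) : False := by
  haveI : Fact (Nat.Prime 2) := ⟨Nat.prime_two⟩
  obtain ⟨T, hT⟩ := B.exists_sylow
  have hcard : Nat.card B.sg = 2 ^ (Nat.card G).factorization 2 := hT ▸ T.card_eq_multiplicity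
  set N := normalizer (B.gB : Set G)
  have h1 : B.sg ≤ N := B.sg_norm.2
  have h2 : B.sg.map (MulAut.conj g).toMonoidHom ≤ N := by
    show _ ≤ normalizer (B.gB : Set G)
    rw [← h, ← Subgroup.map_equiv_normalizer_eq]
    exact map_mono B.sg_norm.1
  have mk : ∀ U : Subgroup G, U ≤ N → Nat.card U = 2 ^ 10 → ∃ P : Sylow 2 N, (P : Subgroup N) = U.subgroupOf N := by
    intro U hU hc
    refine ⟨Sylow.ofCard (U.subgroupOf N) ?_, Sylow.coe_ofCard _ _⟩
    rw [Nat.card_congr (subgroupOfEquivOfLe hU).toEquiv, hc]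
    have hd1 : 2 ^ (Nat.card N).factorization 2 ∣ Nat.card N := Nat.ordProj_dvd _ _
    have hle : (Nat.card N).factorization 2 ≤ 10 := by
      have := (Nat.factorization_le_iff_dvd Nat.card_pos.ne' Nat.card_pos.ne').2 (card_subgroup_dvd_card N) 2
      have e := hcard
      rw [B.card_sg] at e
      rw [← Nat.pow_right_injective (le_refl 2) e] at this
      exact this
    have hge : 10 ≤ (Nat.card N).factorization 2 := by
      have := card_dvd_of_le hU
      rw [hc] at this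
      exact (Nat.Prime.pow_dvd_iff_le_factorization Nat.prime_two Nat.card_pos.ne').1 this
    rw [le_antisymm hle hge]
  obtain ⟨P, hP⟩ := mk _ h1 B.card_sg
  obtain ⟨P', hP'⟩ := mk _ h2 (by
    rw [Subgroup.card_map_of_injective (MulAut.conj g).injective, B.card_sg])
  obtain ⟨n, hn⟩ := MulAction.exists_smul_eq N P' P
  set c := (n : G) * g
  have key : ∀ x ∈ B.sg, c * x * c⁻¹ ∈ B.sg := by
    intro x hx
    have h3 : (⟨g * x * g⁻¹, h2 ⟨x, hx, rfl⟩⟩ : N) ∈ (P' : Subgroup N) := by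
      rw [hP', mem_subgroupOf]; exact ⟨x, hx, rfl⟩
    have h4 : MulAut.conj n ⟨g * x * g⁻¹, h2 ⟨x, hx, rfl⟩⟩ ∈ (P : Subgroup N) := by
      rw [← hn, Sylow.coe_subgroup_smul]
      exact Subgroup.smul_mem_pointwise_smul _ _ _ h3
    rw [hP, mem_subgroupOf] at h4
    have e : c * x * c⁻¹ = (n : G) * (g * x * g⁻¹) * (n : G)⁻¹ := by simp only [c]; group
    rw [e]
    simpa using h4
  have hzS : B.z ∈ B.sg := B.gA_le_sg ((B.mem_blockGrp block_one.1).2 ⟨zT, block_one.1.hz, B.lf_z⟩)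
  have hcsurj : ∀ y ∈ B.sg, ∃ x ∈ B.sg, c * x * c⁻¹ = y := by
    intro y hy
    let f : B.sg → B.sg := fun x => ⟨c * x * c⁻¹, key x x.2⟩
    have hf : Function.Injective f := fun x y e => Subtype.ext (by simpa [f] using congrArg Subtype.val e)
    obtain ⟨x, hx⟩ := (Finite.injective_iff_surjective.1 hf) ⟨y, hy⟩
    exact ⟨x, x.2, congrArg Subtype.val hx⟩
  have hcz : c * B.z * c⁻¹ = B.z := by
    refine (B.cent_sg (mem_centralizer_iff.2 fun y hy => ?_)).resolve_left fun e => B.z_ne (conj_eq_one_iff.1 e)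
    obtain ⟨x, hx, rfl⟩ := hcsurj y hy
    have hxz : x * B.z = B.z * x := mem_centralizer_singleton_iff.1 (B.sg_le hx)
    rw [show c * x * c⁻¹ * (c * B.z * c⁻¹) = c * (x * B.z) * c⁻¹ by group, hxz]
    group
  refine B.not_conj_in_cent (c := c) (mul_inv_eq_iff_eq_mul.1 hcz) fun x hx => ?_
  have hgx : g * x * g⁻¹ ∈ B.gB := h ▸ ⟨x, hx, rfl⟩
  have e : c * x * c⁻¹ = (n : G) * (g * x * g⁻¹) * (n : G)⁻¹ := by simp only [c]; group
  rw [e]
  exact (mem_normalizer_iff.1 n.2 _).1 hgx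

theorem self_prune {L : List ℕ} {U : Finset ℕ} (hU : ∀ w ∈ U, w ∈ L) (h63 : 63 ≤ U.card)
    (hc : ∀ a ∈ U, ∀ b ∈ U, commN a b = true) : ∀ w ∈ U, w ∈ prune L := by
  intro w hw
  rw [prune, List.mem_filter, Nat.ble_eq, List.countP_eq_length_filter]
  refine ⟨hU w hw, h63.trans ?_⟩
  exact le_trans (Finset.card_le_card fun v hv => List.mem_toFinset.2 (List.mem_filter.2 ⟨hU v hv, hc w hw v hv⟩))
    (List.toFinset_card_le _)

/-- An elementary abelian subgroup of order 64 centralising the central involution and containing it is conjugate to one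
of the two standard ones. -/
theorem conj_block {E : Subgroup G} (hz : B.z ∈ E) (hcomm : ∀ x ∈ E, ∀ y ∈ E, x * y = y * x)
    (hsq : ∀ x ∈ E, x * x = 1) (hcard : Nat.card E = 64) :
    ∃ c, c * B.z = B.z * c ∧
      (E.map (MulAut.conj c).toMonoidHom = B.gA ∨ E.map (MulAut.conj c).toMonoidHom = B.gB) := by
  classical
  -- the codes of the non-identity elements
  have hcode : ∀ x ∈ E, ∃ a, Gd a ∧ B.lf a = x := fun x hx => B.exists_code (hcomm x hx B.z hz)
  set U : Finset ℕ := (invCodes.toFinset).filter fun a => B.lf a ∈ E with hUdef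
  have hin : ∀ a ∈ invCodes, Gd a ∧ mm a a = oneC := fun a ha => by
    obtain ⟨e, he, rfl⟩ := List.mem_map.1 ha
    exact ⟨(tab_spec he).1, (tab_spec he).2.1⟩
  have hUgd : ∀ a ∈ U, Gd a ∧ mm a a = oneC ∧ B.lf a ∈ E := fun a ha => by
    obtain ⟨h1, h2⟩ := Finset.mem_filter.1 ha
    exact ⟨(hin a (List.mem_toFinset.1 h1)).1, (hin a (List.mem_toFinset.1 h1)).2, h2⟩
  have hUmem : ∀ x ∈ E, x ≠ 1 → ∃ a ∈ U, B.lf a = x := fun x hx hne => by
    obtain ⟨a, ha, rfl⟩ := hcode x hx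
    refine ⟨a, Finset.mem_filter.2 ⟨List.mem_toFinset.2 ?_, hx⟩, rfl⟩
    obtain ⟨e, he, rfl⟩ := mem_invTab ha ((B.lf_sq_one ha).1 (hsq _ hx)) fun e => hne (by rw [e, B.lf_one])
    exact List.mem_map.2 ⟨e, he, rfl⟩
  have h63 : 63 ≤ U.card := by
    have hsub : (E : Set G) ⊆ insert 1 (B.lf '' (U : Set ℕ)) := by
      intro x hx
      by_cases h1 : x = 1
      · exact Or.inl h1
      · obtain ⟨a, ha, e⟩ := hUmem x hx h1
        exact Or.inr ⟨a, ha, e⟩
    have h1 := Set.ncard_le_ncard hsub (Set.toFinite _)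
    rw [← Nat.card_coe_set_eq] at h1
    have h2 := Set.ncard_insert_le (1 : G) (B.lf '' (U : Set ℕ))
    have h3 : (B.lf '' (U : Set ℕ)).ncard ≤ U.card := by
      rw [← Set.ncard_coe_finset]; exact Set.ncard_image_le (U.finite_toSet)
    have h4 : Nat.card (E : Set G) = 64 := hcard
    omega
  have hUc : ∀ a ∈ U, ∀ b ∈ U, commN a b = true := fun a ha b hb =>
    by rw [commN, (B.lf_comm (hUgd a ha).1 (hUgd b hb).1).1 (hcomm _ (hUgd a ha).2.2 _ (hUgd b hb).2.2)]; exact Nat.beq_refl _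
  have hinv : ∀ a ∈ U, a ∈ invCodes := fun a ha => List.mem_toFinset.1 (Finset.mem_filter.1 ha).1
  have hne1 : ∀ a ∈ invCodes, a ≠ oneC := fun a ha e => by
    have := List.all_eq_true.1 inv_ne a ha
    rw [e, Nat.beq_refl] at this
    exact absurd this (by simp)
  -- some element lies outside the core
  obtain ⟨w, hw, hwc⟩ : ∃ w ∈ U, cls w = 3 ∨ cls w = 5 ∨ cls w = 6 ∨ cls w = 7 := by
    by_contra hno
    push_neg at hno
    have hsub : ∀ a ∈ U, a ∈ coreInv := fun a ha => by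
      obtain ⟨h1, h2, h3, h4⟩ := hno a ha
      have := cls_lt (hUgd a ha).1 (hUgd a ha).2.1 (hne1 a (hinv a ha))
      refine List.mem_filter.2 ⟨hinv a ha, ?_⟩
      rw [Bool.or_eq_true, Nat.ble_eq, Nat.beq_eq]
      omega
    obtain ⟨a, ha, hne⟩ : ∃ a ∈ U, a ≠ zT := by
      refine Finset.exists_mem_ne (by omega) zT
    have hh := List.all_eq_true.1 core_check a (hsub a ha)
    have hmem : a ∈ prune coreInv := self_prune hsub h63 hUc a ha
    rw [prune, List.mem_filter] at hmem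
    rw [hmem.2, Bool.not_true, Bool.or_false, Nat.beq_eq] at hh
    exact hne hh
  -- choose one conjugate to the representative of one of the two largest classes if present
  obtain ⟨k, d, w, hw, hd, hdw, hwk⟩ : ∃ k d w, w ∈ U ∧ Gd d ∧ B.lf d * B.lf (rep k) * (B.lf d)⁻¹ = B.lf w ∧
      ((k = 6 ∨ k = 7) ∨ ((k = 3 ∨ k = 5) ∧ ∀ v ∈ U, ∀ j c', (j = 6 ∨ j = 7) → Gd c' →
        B.lf c' * B.lf (rep j) * (B.lf c')⁻¹ ≠ B.lf v)) := by
    by_cases hh : ∃ v ∈ U, ∃ j c', (j = 6 ∨ j = 7) ∧ Gd c' ∧ B.lf c' * B.lf (rep j) * (B.lf c')⁻¹ = B.lf v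
    · obtain ⟨v, hv, j, c', hj, hc', e⟩ := hh
      exact ⟨j, c', v, hv, hc', e, Or.inl hj⟩
    · push_neg at hh
      obtain ⟨c', hc', e⟩ := B.conj_rep (hUgd w hw).1 (hUgd w hw).2.1 (hne1 w (hinv w hw))
      refine ⟨cls w, c', w, hw, hc', e, Or.inr ⟨?_, hh⟩⟩
      rcases hwc with hk | hk | hk | hk
      exacts [Or.inl hk, Or.inr hk, absurd e (hh w hw _ c' (Or.inl hk) hc'), absurd e (hh w hw _ c' (Or.inr hk) hc')]
  -- move it to the representative
  obtain ⟨hwg, hw2, hwE⟩ := hUgd w hw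
  obtain ⟨di, hdi, hdie⟩ := B.exists_code (g := (B.lf d)⁻¹)
    ((show Commute (B.lf d) B.z from B.lf_comm_z hd).inv_left).eq
  have hdd : mm di d = oneC := (B.lf_eq_one (hdi.mul hd)).1 (by rw [B.lf_mul hdi hd, hdie, inv_mul_cancel])
  set mv : ℕ → ℕ := fun a => cjC di d a
  have hmv : ∀ a ∈ U, Gd (mv a) ∧ B.lf (mv a) = (B.lf d)⁻¹ * B.lf a * B.lf d := fun a ha => by
    refine ⟨(hdi.mul (hUgd a ha).1).mul hd, ?_⟩
    rw [B.lf_cj hdi hd hdd (hUgd a ha).1, hdie, inv_inv]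
  have hmvi : ∀ a ∈ U, mv a ∈ invCodes := fun a ha => by
    obtain ⟨h1, h2⟩ := hmv a ha
    have hsq' : mm (mv a) (mv a) = oneC := (B.lf_sq_one h1).1 (by
      rw [h2, show (B.lf d)⁻¹ * B.lf a * B.lf d * ((B.lf d)⁻¹ * B.lf a * B.lf d) =
        (B.lf d)⁻¹ * (B.lf a * B.lf a) * B.lf d by group, hsq _ (hUgd a ha).2.2]; group)
    obtain ⟨e, he, hee⟩ := mem_invTab h1 hsq' fun e => hne1 a (hinv a ha) ((B.lf_eq_one (hUgd a ha).1).1 (by
      rw [e, B.lf_one] at h2
      exact (conj_eq_one_iff (a := (B.lf d)⁻¹)).1 (by rw [inv_inv]; exact h2.symm)))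
    exact List.mem_map.2 ⟨e, he, hee⟩
  set V := U.image mv with hV
  have hVc : ∀ a ∈ V, ∀ b ∈ V, commN a b = true := by
    intro a ha b hb
    obtain ⟨x, hx, rfl⟩ := Finset.mem_image.1 ha
    obtain ⟨y, hy, rfl⟩ := Finset.mem_image.1 hb
    suffices e : mm (mv x) (mv y) = mm (mv y) (mv x) by rw [commN, e]; exact Nat.beq_refl _
    refine (B.lf_comm (hmv x hx).1 (hmv y hy).1).1 ?_
    rw [(hmv x hx).2, (hmv y hy).2]
    have := hcomm _ (hUgd x hx).2.2 _ (hUgd y hy).2.2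
    calc (B.lf d)⁻¹ * B.lf x * B.lf d * ((B.lf d)⁻¹ * B.lf y * B.lf d) = (B.lf d)⁻¹ * (B.lf x * B.lf y) * B.lf d := by group
      _ = (B.lf d)⁻¹ * (B.lf y * B.lf x) * B.lf d := by rw [this]
      _ = _ := by group
  have hV63 : 63 ≤ V.card := by
    rw [hV, Finset.card_image_of_injOn]
    · exact h63
    intro x hx y hy e
    have e' := congrArg B.lf e
    rw [(hmv x hx).2, (hmv y hy).2] at e'
    exact B.lf_inj (hUgd x hx).1 (hUgd y hy).1 (mul_left_cancel (mul_right_cancel e'))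
  have hmw : mv w = rep k :=
    B.lf_inj (hmv w hw).1 (rep_spec (show k < 8 by omega)).1 (by rw [(hmv w hw).2, ← hdw]; group)
  have hstart : ∀ a ∈ V, a ∈ invCodes ∧ commN a (rep k) = true := fun a ha => by
    refine ⟨?_, hmw ▸ hVc a ha _ (Finset.mem_image_of_mem _ hw)⟩
    obtain ⟨x, hx, rfl⟩ := Finset.mem_image.1 ha
    exact hmvi x hx
  refine ⟨(B.lf d)⁻¹, ((show Commute (B.lf d) B.z from B.lf_comm_z hd).inv_left).eq, ?_⟩
  have hmap : ∀ {L : List ℕ} (hL : Block L), (∀ a ∈ V, a ∈ L) →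
      E.map (MulAut.conj (B.lf d)⁻¹).toMonoidHom = B.blockGrp L := by
    intro L hL hin'
    refine Subgroup.eq_of_le_of_card_ge ?_ ?_
    · rintro _ ⟨x, hx, rfl⟩
      by_cases h1 : x = 1
      · rw [h1, map_one]; exact one_mem _
      obtain ⟨a, ha, rfl⟩ := hUmem x hx h1
      refine (B.mem_blockGrp hL).2 ⟨mv a, hin' _ (Finset.mem_image_of_mem _ ha), ?_⟩
      rw [(hmv a ha).2]; simp
    · rw [B.card_blockGrp hL, Subgroup.card_map_of_injective (MulAut.conj _).injective, hcard]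
  rcases hwk with (hk | hk) | ⟨hk, hall⟩
  · refine Or.inl (hmap block_one.1 fun a ha => ?_)
    refine mem_of_any (List.all_eq_true.1 prune_check.1 a (self_prune (fun v hv => ?_) hV63 hVc a ha))
    obtain ⟨h1, h2⟩ := hstart v hv
    exact List.mem_filter.2 ⟨h1, hk ▸ h2⟩
  · refine Or.inr (hmap block_two.1 fun a ha => ?_)
    refine mem_of_any (List.all_eq_true.1 prune_check.2.1 a (self_prune (fun v hv => ?_) hV63 hVc a ha))
    obtain ⟨h1, h2⟩ := hstart v hv
    exact List.mem_filter.2 ⟨h1, hk ▸ h2⟩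
  · exfalso
    have hmid : ∀ a ∈ V, a ∈ startMid k := fun a ha => by
      refine List.mem_filter.2 ⟨(hstart a ha).1, ?_⟩
      rw [(hstart a ha).2, Bool.true_and, Nat.ble_eq]
      obtain ⟨x, hx, rfl⟩ := Finset.mem_image.1 ha
      have hsq' : mm (mv x) (mv x) = oneC := (tab_sq (hmvi x hx))
      have hlt := cls_lt (hmv x hx).1 hsq' (hne1 _ (hmvi x hx))
      obtain ⟨c', hc', e'⟩ := B.conj_rep (hmv x hx).1 hsq' (hne1 _ (hmvi x hx))
      by_contra hgt
      refine hall x hx (cls (mv x)) (mm d c') (by omega) (hd.mul hc') ?_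
      rw [B.lf_mul hd hc', show B.lf d * B.lf c' * B.lf (rep (cls (mv x))) * (B.lf d * B.lf c')⁻¹ =
        B.lf d * (B.lf c' * B.lf (rep (cls (mv x))) * (B.lf c')⁻¹) * (B.lf d)⁻¹ by group, e', (hmv x hx).2]
      group
    have h3 := self_prune (self_prune (self_prune hmid hV63 hVc) hV63 hVc) hV63 hVc _
      (Finset.mem_image_of_mem mv hw)
    rcases hk with hk | hk <;> rw [hk] at h3
    · rw [prune_check.2.2.1] at h3; exact List.not_mem_nil h3
    · rw [prune_check.2.2.2] at h3; exact List.not_mem_nil h3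

end Emb

end Cfsg.Agent.H98.Held
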