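import Cfsg.Agent.H98.Held.Prune

/-!
Numerical invariants deciding the fusion of the involution classes.
-/

set_option autoImplicit false
set_option maxRecDepth 100000

namespace Cfsg.Agent.H98.Held

/-- Membership of a class in the set given by a mask over the classes 1, 2, 3, 6, 7. -/
def inK (m k : ℕ) : Bool :=
  Nat.beq k 0 || (Nat.beq k 1 && m.testBit 0) || (Nat.beq k 2 && m.testBit 1) || (Nat.beq k 3 && m.testBit 2) ||
    (Nat.beq k 6 && m.testBit 3) || (Nat.beq k 7 && m.testBit 4)

/-- The members with class in the set. -/
noncomputable def zSet (L : List ℕ) (m : ℕ) : List ℕ :=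
  L.filter fun b => !(Nat.beq b oneC) && inK m (cls b)

/-- The number of members of the set whose product with the given one lies in the set. -/
noncomputable def zCnt (L : List ℕ) (m a : ℕ) : ℕ :=
  (zSet L m).countP fun b => !(Nat.beq (mm a b) oneC) && inK m (cls (mm a b))

/-- The six surviving sets. -/
def liveMasks : List ℕ := [1, 2, 7, 15, 23, 31]

theorem mask_check : ((List.range 32).all fun m => (Nat.beq (m % 4) 0) || liveMasks.contains m ||
    !((zSet aOne m).all fun a => Nat.beq (zCnt aOne m a) (zCnt aOne m zT)) ||
    !((zSet aTwo m).all fun a => Nat.beq (zCnt aTwo m a) (zCnt aTwo m zT))) = true := by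
  decide +kernel

/-- The involutions commuting with a representative. -/
noncomputable def invComm (k : ℕ) : List ℕ := invCodes.filter fun w => commN w (rep k)

/-- The square roots of the transvection commuting with a representative. -/
noncomputable def rootComm (k : ℕ) : List ℕ := rootsZ.filter fun w => commN w (rep k)

theorem root_check : (((List.range 8).drop 1).all fun k => !(rootComm k).isEmpty &&
      (!(Nat.beq (invComm k).length (invComm 4).length) || !(Nat.ble (rootComm k).length rootsFour.length))) = true ∧
    rootsZ.Nodup ∧ invCodes.Nodup ∧ (rootsZ.all fun r => gdB r (mm r zT) && Nat.beq (mm r r) zT) = true := by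
  decide +kernel

end Cfsg.Agent.H98.Held
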