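import Cfsg.Agent.H98.Held.Fusion
import Cfsg.Agent.H98.Held.ClassTables

/-!
The possible fusions of the involution classes.
-/

set_option autoImplicit false
set_option linter.style.haveILetI false

namespace Cfsg.Agent.H98.Held

open Subgroup

attribute [local irreducible] mm oneC zT invTab aOne aTwo cls rootsZ rootsFour zSet zCnt

namespace Emb

universe u

variable {G : Type u} [Group G] [Finite G] (B : Emb G)

theorem orbit_aux {X Y : Subgroup G} (hX : Nat.card X = 64) (hcomm : ∀ x ∈ X, ∀ y ∈ X, x * y = y * x)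
    (hsq : ∀ x ∈ X, x * x = 1)
    (hcases : (X = B.gA ∧ Y = B.gB) ∨ (X = B.gB ∧ Y = B.gA)) {x : G} (hx : x ∈ X) (hc : IsConj B.z x) :
    ∃ h ∈ normalizer (X : Set G), h * B.z * h⁻¹ = x := by
  obtain ⟨g, hg⟩ := isConj_iff.1 hc
  set e := MulAut.conj g⁻¹
  have hz : B.z ∈ X.map e.toMonoidHom := ⟨x, hx, by simp [e, ← hg, mul_assoc]⟩
  obtain ⟨c, hcz, hcase⟩ := B.conj_block (E := X.map e.toMonoidHom) hz
    (by rintro _ ⟨p, hp, rfl⟩ _ ⟨q, hq, rfl⟩; rw [← map_mul, hcomm p hp q hq, map_mul])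
    (by rintro _ ⟨p, hp, rfl⟩; rw [← map_mul, hsq p hp, map_one])
    (by rw [Subgroup.card_map_of_injective e.injective, hX])
  have hmm : (X.map e.toMonoidHom).map (MulAut.conj c).toMonoidHom = X.map (MulAut.conj (c * g⁻¹)).toMonoidHom := by
    rw [Subgroup.map_map]
    congr 1
    ext y
    simp [e, mul_assoc]
  rw [hmm] at hcase
  have hY : X.map (MulAut.conj (c * g⁻¹)).toMonoidHom ≠ Y := by
    intro h
    rcases hcases with ⟨rfl, rfl⟩ | ⟨rfl, rfl⟩
    · exact B.conj_gA_ne h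
    · refine B.conj_gA_ne (g := (c * g⁻¹)⁻¹) ?_
      rw [← h, Subgroup.map_map]
      convert Subgroup.map_id _
      ext y
      simp [mul_assoc]
  have hXX : X.map (MulAut.conj (c * g⁻¹)).toMonoidHom = X := by
    rcases hcases with ⟨rfl, rfl⟩ | ⟨rfl, rfl⟩
    · exact hcase.resolve_right hY
    · exact hcase.resolve_left hY
  refine ⟨(c * g⁻¹)⁻¹, inv_mem (mem_normalizer_fintype fun y hy => ?_), ?_⟩
  · have : c * g⁻¹ * y * (c * g⁻¹)⁻¹ ∈ X.map (MulAut.conj (c * g⁻¹)).toMonoidHom := ⟨y, hy, rfl⟩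
    rwa [hXX] at this
  · rw [mul_inv_rev, inv_inv, mul_inv_rev, inv_inv]
    calc g * c⁻¹ * B.z * (c * g⁻¹) = g * c⁻¹ * (B.z * c) * g⁻¹ := by group
      _ = g * c⁻¹ * (c * B.z) * g⁻¹ := by rw [hcz]
      _ = x := by rw [← hg]; group

theorem block_comm {L : List ℕ} (hL : Block L) :
    (∀ x ∈ B.blockGrp L, ∀ y ∈ B.blockGrp L, x * y = y * x) ∧ ∀ x ∈ B.blockGrp L, x * x = 1 := by
  refine ⟨fun x hx y hy => ?_, fun x hx => ?_⟩
  · obtain ⟨a, ha, rfl⟩ := (B.mem_blockGrp hL).1 hx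
    obtain ⟨b, hb, rfl⟩ := (B.mem_blockGrp hL).1 hy
    exact (B.lf_comm (hL.sq a ha).1 (hL.sq b hb).1).2 (hL.closed a ha b hb).2
  · obtain ⟨a, ha, rfl⟩ := (B.mem_blockGrp hL).1 hx
    exact (B.lf_sq_one (hL.sq a ha).1).2 (hL.sq a ha).2

/-- The conjugates of the central involution in the first group form one orbit of its normaliser. -/
theorem orbit_gA {x : G} (hx : x ∈ B.gA) (hc : IsConj B.z x) : ∃ h ∈ normalizer (B.gA : Set G), h * B.z * h⁻¹ = x :=
  B.orbit_aux (B.card_blockGrp block_one.1) (B.block_comm block_one.1).1 (B.block_comm block_one.1).2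
    (Or.inl ⟨rfl, rfl⟩) hx hc

/-- The conjugates of the central involution in the second group form one orbit of its normaliser. -/
theorem orbit_gB {x : G} (hx : x ∈ B.gB) (hc : IsConj B.z x) : ∃ h ∈ normalizer (B.gB : Set G), h * B.z * h⁻¹ = x :=
  B.orbit_aux (B.card_blockGrp block_two.1) (B.block_comm block_two.1).1 (B.block_comm block_two.1).2
    (Or.inr ⟨rfl, rfl⟩) hx hc

theorem length_le_of_conj {L1 L2 : List ℕ} (hn : L1.Nodup) (h1 : ∀ a ∈ L1, Gd a) (g : G)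
    (hmap : ∀ a ∈ L1, ∃ b ∈ L2, B.lf b = g * B.lf a * g⁻¹) : L1.length ≤ L2.length := by
  classical
  choose f hf1 hf2 using hmap
  rw [← List.toFinset_card_of_nodup hn]
  refine le_trans ?_ (List.toFinset_card_le L2)
  refine Finset.card_le_card_of_injOn (fun a => if ha : a ∈ L1 then f a ha else 0) (fun a ha => ?_) ?_
  · rw [Finset.mem_coe, List.mem_toFinset] at ha
    simp only [Finset.mem_coe, dif_pos ha, List.mem_toFinset]
    exact hf1 a ha
  · intro a ha b hb e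
    rw [Finset.mem_coe, List.mem_toFinset] at ha hb
    simp only [dif_pos ha, dif_pos hb] at e
    have := (hf2 a ha).symm.trans ((congrArg B.lf e).trans (hf2 b hb))
    exact B.lf_inj (h1 a ha) (h1 b hb) (mul_left_cancel (mul_right_cancel this))

theorem exists_swap {k : ℕ} (hk : k < 8) (hk0 : k ≠ 0) (h : B.IsZ (rep k)) :
    ∃ g : G, ∃ j, j < 8 ∧ j ≠ 0 ∧ g * B.lf (rep k) * g⁻¹ = B.z ∧ g * B.z * g⁻¹ = B.lf (rep j) := by
  obtain ⟨hg, h2, hc⟩ := rep_spec hk
  obtain ⟨c, hcc⟩ := isConj_iff.1 (h : IsConj B.z (B.lf (rep k))).symm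
  have hcomm : c * B.z * c⁻¹ * B.z = B.z * (c * B.z * c⁻¹) := by
    conv_lhs => arg 2; rw [← hcc]
    conv_rhs => arg 1; rw [← hcc]
    rw [show c * B.z * c⁻¹ * (c * B.lf (rep k) * c⁻¹) = c * (B.z * B.lf (rep k)) * c⁻¹ by group,
      ← B.lf_comm_z hg]
    group
  obtain ⟨p, hp, hpe⟩ := B.exists_code hcomm
  have hp2 : mm p p = oneC := (B.lf_sq_one hp).1 (by
    rw [hpe, show c * B.z * c⁻¹ * (c * B.z * c⁻¹) = c * (B.z * B.z) * c⁻¹ by group, B.z_sq]; group)
  have hp1 : p ≠ oneC := fun e => B.z_ne (by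
    rw [e, B.lf_one] at hpe; exact (conj_eq_one_iff).1 hpe.symm)
  obtain ⟨d, hd, hde⟩ := B.conj_rep hp hp2 hp1
  have hdz : (B.lf d)⁻¹ * B.z * B.lf d = B.z := by
    rw [mul_assoc, ← B.lf_comm_z hd, inv_mul_cancel_left]
  refine ⟨(B.lf d)⁻¹ * c, cls p, cls_lt hp hp2 hp1, fun e0 => ?_, ?_, ?_⟩
  · rw [e0, rep_check.2.1, B.lf_z] at hde
    have hcz : c * B.z * c⁻¹ = B.z := by
      rw [← hpe, ← hde, B.lf_comm_z hd, mul_inv_cancel_right]
    have := B.lf_inj hg gd_zT (a := rep k) (b := zT) (by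
      rw [B.lf_z]
      exact mul_left_cancel (mul_right_cancel (hcc.trans hcz.symm)))
    rw [this, zT_facts.2.2] at hc
    exact hk0 hc.symm
  · rw [show (B.lf d)⁻¹ * c * B.lf (rep k) * ((B.lf d)⁻¹ * c)⁻¹ =
      (B.lf d)⁻¹ * (c * B.lf (rep k) * c⁻¹) * B.lf d by group, hcc, hdz]
  · rw [show (B.lf d)⁻¹ * c * B.z * ((B.lf d)⁻¹ * c)⁻¹ = (B.lf d)⁻¹ * (c * B.z * c⁻¹) * B.lf d by group,
      ← hpe, ← hde]
    group

theorem root_mem {r : ℕ} (hr : r ∈ rootsZ) : Gd r ∧ B.lf r * B.lf r = B.z := by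
  have h := List.all_eq_true.1 root_check.2.2.2 r hr
  rw [Bool.and_eq_true, Nat.beq_eq] at h
  have hg := gd_of_gdB h.1
  exact ⟨hg, by rw [← B.lf_mul hg hg, h.2, B.lf_z]⟩

theorem root_back {k j r : ℕ} (hk : k < 8) (hj : j < 8) {g : G}
    (e1 : g * B.lf (rep k) * g⁻¹ = B.z) (e2 : g * B.z * g⁻¹ = B.lf (rep j)) (hr : r ∈ rootComm j) :
    ∃ p, isC p = true ∧ mm p p = rep k ∧ B.lf p = g⁻¹ * B.lf r * g := by
  obtain ⟨hr1, hr2⟩ := List.mem_filter.1 hr
  obtain ⟨hrg, hrs⟩ := B.root_mem hr1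
  have hrc : B.lf r * B.lf (rep j) = B.lf (rep j) * B.lf r := by
    rw [commN, Nat.beq_eq] at hr2
    exact (B.lf_comm hrg (rep_spec hj).1).2 hr2
  obtain ⟨p, hp, hpe⟩ := B.exists_code (g := g⁻¹ * B.lf r * g) (by
    rw [← e2] at hrc
    calc g⁻¹ * B.lf r * g * B.z = g⁻¹ * (B.lf r * (g * B.z * g⁻¹)) * g := by group
      _ = g⁻¹ * ((g * B.z * g⁻¹) * B.lf r) * g := by rw [hrc]
      _ = _ := by group)
  refine ⟨p, hp.isC, B.lf_inj (hp.mul hp) (rep_spec hk).1 ?_, hpe⟩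
  rw [B.lf_mul hp hp, hpe, show g⁻¹ * B.lf r * g * (g⁻¹ * B.lf r * g) = g⁻¹ * (B.lf r * B.lf r) * g by group,
    hrs, ← e1]
  group

theorem not_isZ_five : ¬ B.IsZ (rep 5) := by
  intro h
  obtain ⟨g, j, hj, hj0, e1, e2⟩ := B.exists_swap (by norm_num) (by norm_num) h
  have hj' : j ∈ (List.range 8).drop 1 := by
    revert hj0; revert hj; intro hj
    interval_cases j <;> decide
  have hh := List.all_eq_true.1 root_check.1 j hj'
  rw [Bool.and_eq_true] at hh
  obtain ⟨r, hr⟩ := List.exists_mem_of_ne_nil (rootComm j) (by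
    intro e; rw [e] at hh; simp at hh)
  obtain ⟨p, hp, hps, -⟩ := B.root_back (by norm_num) hj e1 e2 hr
  exact (sweep hp).2.2.2 hps

theorem not_isZ_four : ¬ B.IsZ (rep 4) := by
  intro h
  obtain ⟨g, j, hj, hj0, e1, e2⟩ := B.exists_swap (by norm_num) (by norm_num) h
  have hj' : j ∈ (List.range 8).drop 1 := by
    revert hj0; revert hj; intro hj
    interval_cases j <;> decide
  have hh := List.all_eq_true.1 root_check.1 j hj'
  simp only [Bool.and_eq_true, Bool.or_eq_true, Bool.not_eq_true', beq_ne] at hh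
  have hinvn : ∀ k, (invComm k).Nodup := fun k => root_check.2.2.1.filter _
  have hinvg : ∀ k a, a ∈ invComm k → Gd a ∧ mm a a = oneC := fun k a ha => by
    obtain ⟨e, he, rfl⟩ := List.mem_map.1 (List.mem_filter.1 ha).1
    exact ⟨(tab_spec he).1, (tab_spec he).2.1⟩
  have move : ∀ {k l : ℕ} {q : G}, k < 8 → l < 8 → q * B.z * q⁻¹ = B.lf (rep l) → q * B.lf (rep k) * q⁻¹ = B.z →
      ∀ a ∈ invComm k, ∃ b ∈ invComm l, B.lf b = q * B.lf a * q⁻¹ := by
    intro k l q hk hl q1 q2 a ha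
    obtain ⟨hag, ha2⟩ := hinvg k a ha
    have hcm : B.lf a * B.lf (rep k) = B.lf (rep k) * B.lf a := by
      have := (List.mem_filter.1 ha).2
      rw [commN, Nat.beq_eq] at this
      exact (B.lf_comm hag (rep_spec hk).1).2 this
    obtain ⟨b, hb, hbe⟩ := B.exists_code (g := q * B.lf a * q⁻¹) (by
      rw [← q2, show q * B.lf a * q⁻¹ * (q * B.lf (rep k) * q⁻¹) = q * (B.lf a * B.lf (rep k)) * q⁻¹ by group, hcm]
      group)
    have hb2 : mm b b = oneC := (B.lf_sq_one hb).1 (by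
      rw [hbe, show q * B.lf a * q⁻¹ * (q * B.lf a * q⁻¹) = q * (B.lf a * B.lf a) * q⁻¹ by group,
        (B.lf_sq_one hag).2 ha2]; group)
    refine ⟨b, List.mem_filter.2 ⟨?_, ?_⟩, hbe⟩
    · obtain ⟨e, he, rfl⟩ := mem_invTab hb hb2 fun e => by
        rw [e, B.lf_one] at hbe
        have := conj_eq_one_iff.1 hbe.symm
        have h1 := List.all_eq_true.1 inv_ne a (List.mem_filter.1 ha).1
        rw [(B.lf_eq_one hag).1 this, Nat.beq_refl] at h1
        exact absurd h1 (by simp)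
      exact List.mem_map.2 ⟨e, he, rfl⟩
    · rw [commN, Nat.beq_eq]
      refine (B.lf_comm hb (rep_spec hl).1).1 ?_
      rw [hbe, ← q1, show q * B.lf a * q⁻¹ * (q * B.z * q⁻¹) = q * (B.lf a * B.z) * q⁻¹ by group, B.lf_comm_z hag]
      group
  have hlen : (invComm j).length = (invComm 4).length := by
    refine le_antisymm (B.length_le_of_conj (hinvn j) (fun a ha => (hinvg j a ha).1) g⁻¹
      (move hj (by norm_num) ?_ ?_)) (B.length_le_of_conj (hinvn 4) (fun a ha => (hinvg 4 a ha).1) g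
      (move (by norm_num) hj e2 e1))
    · rw [← e1]; group
    · rw [← e2]; group
  have hroots : (rootComm j).length ≤ rootsFour.length := by
    refine B.length_le_of_conj (root_check.2.1.filter _) (fun a ha => (B.root_mem (List.mem_filter.1 ha).1).1)
      g⁻¹ fun r hr => ?_
    obtain ⟨p, hp, hps, hpe⟩ := B.root_back (by norm_num) hj e1 e2 hr
    exact ⟨p, (sweep hp).2.2.1 hps, by rw [hpe, inv_inv]⟩
  rcases hh.2 with h1 | h1
  · exact h1 hlen
  · rw [← Bool.not_eq_true] at h1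
    exact h1 (Nat.ble_eq ▸ hroots)

theorem exists_mask : ∃ m < 32, ∀ k < 8, B.IsZ (rep k) ↔ inK m k = true := by
  classical
  let v : ℕ → ℕ := fun k => if B.IsZ (rep k) then 1 else 0
  have hv : ∀ k, v k ≤ 1 := fun k => by simp only [v]; split <;> omega
  refine ⟨v 1 + 2 * v 2 + 4 * v 3 + 8 * v 6 + 16 * v 7, ?_, fun k hk => ?_⟩
  · have := hv 1; have := hv 2; have := hv 3; have := hv 6; have := hv 7; omega
  have z0 := B.isZ_zero
  have z4 := B.not_isZ_four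
  have z5 := B.not_isZ_five
  simp only [v]
  interval_cases k
  · simp [inK, z0]
  · by_cases h1 : B.IsZ (rep 1) <;> by_cases h2 : B.IsZ (rep 2) <;> by_cases h3 : B.IsZ (rep 3) <;>
      by_cases h6 : B.IsZ (rep 6) <;> by_cases h7 : B.IsZ (rep 7) <;> simp [h1, h2, h3, h6, h7, inK, Nat.testBit_eq_decide_div_mod_eq]
  · by_cases h1 : B.IsZ (rep 1) <;> by_cases h2 : B.IsZ (rep 2) <;> by_cases h3 : B.IsZ (rep 3) <;>
      by_cases h6 : B.IsZ (rep 6) <;> by_cases h7 : B.IsZ (rep 7) <;> simp [h1, h2, h3, h6, h7, inK, Nat.testBit_eq_decide_div_mod_eq]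
  · by_cases h1 : B.IsZ (rep 1) <;> by_cases h2 : B.IsZ (rep 2) <;> by_cases h3 : B.IsZ (rep 3) <;>
      by_cases h6 : B.IsZ (rep 6) <;> by_cases h7 : B.IsZ (rep 7) <;> simp [h1, h2, h3, h6, h7, inK, Nat.testBit_eq_decide_div_mod_eq]
  · simp [inK, z4]
  · simp [inK, z5]
  · by_cases h1 : B.IsZ (rep 1) <;> by_cases h2 : B.IsZ (rep 2) <;> by_cases h3 : B.IsZ (rep 3) <;>
      by_cases h6 : B.IsZ (rep 6) <;> by_cases h7 : B.IsZ (rep 7) <;> simp [h1, h2, h3, h6, h7, inK, Nat.testBit_eq_decide_div_mod_eq]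
  · by_cases h1 : B.IsZ (rep 1) <;> by_cases h2 : B.IsZ (rep 2) <;> by_cases h3 : B.IsZ (rep 3) <;>
      by_cases h6 : B.IsZ (rep 6) <;> by_cases h7 : B.IsZ (rep 7) <;> simp [h1, h2, h3, h6, h7, inK, Nat.testBit_eq_decide_div_mod_eq]

theorem zSet_iff {L : List ℕ} (hL : Block L) {m : ℕ} (hm : ∀ k < 8, B.IsZ (rep k) ↔ inK m k = true) {a : ℕ}
    (ha : a ∈ L) : a ∈ zSet L m ↔ a ≠ oneC ∧ B.IsZ a := by
  unfold zSet
  rw [List.mem_filter, Bool.and_eq_true, Bool.not_eq_true', beq_ne]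
  refine ⟨fun h => ⟨h.2.1, (B.isZ_iff (hL.sq a ha).1 (hL.sq a ha).2 h.2.1).2
    ((hm _ (cls_lt (hL.sq a ha).1 (hL.sq a ha).2 h.2.1)).2 h.2.2)⟩, fun h => ⟨ha, h.1,
    (hm _ (cls_lt (hL.sq a ha).1 (hL.sq a ha).2 h.1)).1 ((B.isZ_iff (hL.sq a ha).1 (hL.sq a ha).2 h.1).1 h.2)⟩⟩

theorem zCnt_const {L : List ℕ} (hL : Block L) {m : ℕ} (hm : ∀ k < 8, B.IsZ (rep k) ↔ inK m k = true)
    (horb : ∀ x ∈ B.blockGrp L, IsConj B.z x → ∃ h ∈ normalizer (B.blockGrp L : Set G), h * B.z * h⁻¹ = x)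
    {a : ℕ} (ha : a ∈ zSet L m) : zCnt L m a = zCnt L m zT := by
  classical
  have haL : a ∈ L := by unfold zSet at ha; exact (List.mem_filter.1 ha).1
  obtain ⟨h, hh, he⟩ := horb _ ((B.mem_blockGrp hL).2 ⟨a, haL, rfl⟩) ((B.zSet_iff hL hm haL).1 ha).2
  have hz : ∀ x y b, x ∈ L → b ∈ L → y = mm x b → ((!(Nat.beq y oneC) && inK m (cls y)) = true ↔
      B.lf x * B.lf b ≠ 1 ∧ IsConj B.z (B.lf x * B.lf b)) := by
    rintro x y b hx hb rfl
    have hxb := (hL.closed x hx b hb).1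
    rw [← B.lf_mul (hL.sq x hx).1 (hL.sq b hb).1]
    have := B.zSet_iff hL hm hxb
    unfold zSet at this
    rw [List.mem_filter] at this
    rw [Ne, B.lf_eq_one (hL.sq _ hxb).1]
    exact ⟨fun hh' => this.1 ⟨hxb, hh'⟩, fun hh' => (this.2 hh').2⟩
  -- the sets counted
  let P : G → Set G := fun x => {y | y ∈ B.blockGrp L ∧ y ≠ 1 ∧ IsConj B.z y ∧ x * y ≠ 1 ∧ IsConj B.z (x * y)}
  have key : ∀ x ∈ L, zCnt L m x = (P (B.lf x)).ncard := by
    intro x hx
    unfold zCnt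
    rw [List.countP_eq_length_filter]
    set F := (zSet L m).filter fun b => !(Nat.beq (mm x b) oneC) && inK m (cls (mm x b))
    have hnd : F.Nodup := by
      refine List.Nodup.filter _ ?_
      unfold zSet
      exact hL.nodup.filter _
    have hFL : ∀ b ∈ F, b ∈ L := fun b hb => by
      have := (List.mem_filter.1 hb).1
      unfold zSet at this
      exact (List.mem_filter.1 this).1
    have hP : P (B.lf x) = B.lf '' (F.toFinset : Set ℕ) := by
      ext y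
      constructor
      · rintro ⟨hyL, hy1, hyz, hxy⟩
        obtain ⟨b, hb, rfl⟩ := (B.mem_blockGrp hL).1 hyL
        refine ⟨b, List.mem_toFinset.2 (List.mem_filter.2 ⟨(B.zSet_iff hL hm hb).2
          ⟨fun e => hy1 ((B.lf_eq_one (hL.sq b hb).1).2 e), hyz⟩, (hz x _ b hx hb rfl).2 hxy⟩), rfl⟩
      · rintro ⟨b, hb, rfl⟩
        rw [Finset.mem_coe, List.mem_toFinset] at hb
        have hbL := hFL b hb
        obtain ⟨h1, h2⟩ := List.mem_filter.1 hb
        obtain ⟨h3, h4⟩ := (B.zSet_iff hL hm hbL).1 h1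
        exact ⟨(B.mem_blockGrp hL).2 ⟨b, hbL, rfl⟩, fun e => h3 ((B.lf_eq_one (hL.sq b hbL).1).1 e), h4,
          (hz x _ b hx hbL rfl).1 h2⟩
    rw [hP, Set.ncard_image_of_injOn, Set.ncard_coe_finset, List.toFinset_card_of_nodup hnd]
    intro p hp q hq e
    rw [Finset.mem_coe, List.mem_toFinset] at hp hq
    exact B.lf_inj (hL.sq p (hFL p hp)).1 (hL.sq q (hFL q hq)).1 e
  rw [key a haL, key zT hL.hz, B.lf_z, ← he]
  have hconj : ∀ y : G, IsConj B.z y ↔ IsConj B.z (h * y * h⁻¹) := fun y =>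
    ⟨fun e => e.trans (isConj_iff.2 ⟨h, rfl⟩), fun e => e.trans (isConj_iff.2 ⟨h, rfl⟩).symm⟩
  have himg : P (h * B.z * h⁻¹) = (fun y => h * y * h⁻¹) '' P B.z := by
    ext y
    constructor
    · rintro ⟨h1, h2, h3, h4, h5⟩
      refine ⟨h⁻¹ * y * h, ⟨?_, ?_, ?_, ?_, ?_⟩, by group⟩
      · simpa using (mem_normalizer_iff.1 (inv_mem hh) y).1 h1
      · intro e; exact h2 (by rw [show y = h * (h⁻¹ * y * h) * h⁻¹ by group, e]; group)
      · rw [hconj, show h * (h⁻¹ * y * h) * h⁻¹ = y by group]; exact h3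
      · intro e; exact h4 (by
          rw [show h * B.z * h⁻¹ * y = h * (B.z * (h⁻¹ * y * h)) * h⁻¹ by group, e]; group)
      · rw [hconj, show h * (B.z * (h⁻¹ * y * h)) * h⁻¹ = h * B.z * h⁻¹ * y by group]; exact h5
    · rintro ⟨x, ⟨h1, h2, h3, h4, h5⟩, rfl⟩
      refine ⟨(mem_normalizer_iff.1 hh x).1 h1, fun e => h2 (conj_eq_one_iff.1 e), (hconj x).1 h3, fun e => ?_, ?_⟩
      · rw [show h * B.z * h⁻¹ * (h * x * h⁻¹) = h * (B.z * x) * h⁻¹ by group, conj_eq_one_iff] at e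
        exact h4 e
      · rw [show h * B.z * h⁻¹ * (h * x * h⁻¹) = h * (B.z * x) * h⁻¹ by group]
        exact (hconj _).1 h5
  rw [himg, Set.ncard_image_of_injective _ fun x y e => mul_left_cancel (mul_right_cancel e)]

/-- The fusion is one of six. -/
theorem exists_live_mask (hnwc : B.IsZ (rep 1) ∨ B.IsZ (rep 2)) :
    ∃ m ∈ liveMasks, ∀ k < 8, B.IsZ (rep k) ↔ inK m k = true := by
  obtain ⟨m, hm32, hm⟩ := B.exists_mask
  refine ⟨m, ?_, hm⟩
  have h := List.all_eq_true.1 mask_check m (List.mem_range.2 hm32)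
  simp only [Bool.or_eq_true, Bool.not_eq_true', Nat.beq_eq, List.contains_iff_mem] at h
  rcases h with ((h | h) | h) | h
  · exfalso
    rcases hnwc with h1 | h1
    · have := (hm 1 (by norm_num)).1 h1
      simp [inK, Nat.testBit_eq_decide_div_mod_eq] at this
      omega
    · have := (hm 2 (by norm_num)).1 h1
      simp [inK, Nat.testBit_eq_decide_div_mod_eq] at this
      omega
  · exact h
  · exfalso
    rw [← Bool.not_eq_true, List.all_eq_true] at h
    exact h fun a ha => Nat.beq_eq ▸ B.zCnt_const block_one.1 hm (fun x hx hc => B.orbit_gA hx hc) ha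
  · exfalso
    rw [← Bool.not_eq_true, List.all_eq_true] at h
    exact h fun a ha => Nat.beq_eq ▸ B.zCnt_const block_two.1 hm (fun x hx hc => B.orbit_gB hx hc) ha

end Emb

end Cfsg.Agent.H98.Held
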