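import Cfsg.Agent.H98.Held.Code
import Cfsg.Agent.H98.Held.Data

/-!
The sweep over the centraliser of the transvection for the centralisers of the two groups of order 64.
-/

set_option autoImplicit false
set_option maxRecDepth 100000

namespace Cfsg.Agent.H98.Held

open Cfsg.Agent.H45 (force)

theorem cent_check : ((List.range 65536).all fun k => force (param k) fun p =>
    (!(aOneBas.reverse.all fun b => Nat.beq (mm p b) (mm b p)) || aOne.any fun a => Nat.beq a p) &&
      (!(aTwoBas.reverse.all fun b => Nat.beq (mm p b) (mm b p)) || aTwo.any fun a => Nat.beq a p)) = true := by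
  decide +kernel

end Cfsg.Agent.H98.Held
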