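/-!
Root elements of the Sylow subgroup of the centraliser of the transvection.
-/

set_option autoImplicit false

namespace Cfsg.Agent.H98.Held

/-- root elements of the Sylow subgroup -/
def sGens : List Nat := [19140673, 17567809, 17109057, 17051713, 17059905, 17045569, 17043525, 17043529, 17043537, 17043523]

/-- their bit positions -/
def sBits : List Nat := [21, 19, 16, 13, 14, 11, 2, 3, 4, 1]

end Cfsg.Agent.H98.Held
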