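import Cfsg.Agent.H98.Held.Emb
import Cfsg.Agent.H98.Held.Data
import Cfsg.Agent.H98.Held.SData

/-!
Checked facts about the tables for the centraliser of the transvection.
-/

set_option autoImplicit false
set_option maxRecDepth 100000

namespace Cfsg.Agent.H98.Held

open Cfsg.Agent.H45 (force)

/-- The class of a code, 8 for codes outside the table. -/
noncomputable def cls (w : ℕ) : ℕ :=
  match invTab.find? fun e => Nat.beq e.1 w with
  | some e => e.2.1
  | none => 8

/-- The representative of a class. -/
def rep (k : ℕ) : ℕ := repL.getD k 0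


/-- The conjugate of the first factor by the second, given with its inverse. -/
noncomputable def cjC (c ci w : ℕ) : ℕ := mm (mm c w) ci

theorem tab_check : (invTab.all fun e => gdB e.1 e.1 && gdB e.2.2.1 e.2.2.2 && gdB e.2.2.2 e.2.2.1 &&
    Nat.beq (cjC e.2.2.1 e.2.2.2 (rep e.2.1)) e.1 && Nat.ble (e.2.1 + 1) 8) = true := by decide +kernel

theorem cls_check : (invTab.all fun e => Nat.beq (cls e.1) e.2.1) = true := by decide +kernel

theorem rep_check : ((List.range 8).all fun k => Nat.beq (cls (rep k)) k) = true ∧ rep 0 = zT ∧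
    (repL.all fun r => invTab.any fun e => Nat.beq e.1 r) = true ∧ repL.length = 8 := by decide +kernel

theorem zT_unique : (invTab.all fun e => Nat.beq e.1 zT ||
    !(sGens.all fun g => Nat.beq (mm e.1 g) (mm g e.1)) || !(aOne.any fun a => Nat.beq a e.1)) = true := by
  decide +kernel

theorem aOne_check : aOne.Nodup ∧ aOne.length = 64 ∧
    (aOne.all fun a => aOne.all fun b => (aOne.any fun c => Nat.beq c (mm a b)) && Nat.beq (mm a b) (mm b a)) = true ∧
    (aOne.all fun a => Nat.beq (mm a a) oneC && gdB a a) = true ∧ (aOneBas.all fun b => aOne.any fun a => Nat.beq a b) = true ∧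
    (aOne.any fun a => Nat.beq a zT) = true ∧ (aOne.any fun a => Nat.beq a oneC) = true := by
  decide +kernel

theorem aTwo_check : aTwo.Nodup ∧ aTwo.length = 64 ∧
    (aTwo.all fun a => aTwo.all fun b => (aTwo.any fun c => Nat.beq c (mm a b)) && Nat.beq (mm a b) (mm b a)) = true ∧
    (aTwo.all fun a => Nat.beq (mm a a) oneC && gdB a a) = true ∧ (aTwoBas.all fun b => aTwo.any fun a => Nat.beq a b) = true ∧
    (aTwo.any fun a => Nat.beq a zT) = true ∧ (aTwo.any fun a => Nat.beq a oneC) = true := by
  decide +kernel

/-- The code with the given free entries. -/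
def sParam (k : ℕ) : ℕ := oneC + (sBits.mapIdx fun i p => k / 2 ^ i % 2 * 2 ^ p).sum

/-- The free entries of a code. -/
def sIdx (a : ℕ) : ℕ := (sBits.mapIdx fun i p => a / 2 ^ p % 2 * 2 ^ i).sum

theorem s_zero : sParam 0 = oneC := by decide +kernel

theorem s_closed : ((List.range 1024).all fun k => Nat.beq (sIdx (sParam k)) k && sGens.all fun g =>
    force (mm g (sParam k)) fun y => Nat.ble (sIdx y + 1) 1024 && Nat.beq (sParam (sIdx y)) y) = true := by
  decide +kernel

theorem s_gens : (sGens.all fun g => gdB g g) = true := by decide +kernel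

theorem s_reach : ((List.range 1024).all fun k => Nat.beq k 0 ||
    force (Nat.log2 k) fun i => Nat.beq (mm (sParam (k - 2 ^ i)) (sGens.getD i 0)) (sParam k) &&
      Nat.ble (i + 1) sGens.length) = true := by
  decide +kernel

theorem a_normal : (sGens.all fun g => (aOneBas.all fun b => aOne.any fun a => Nat.beq a (cjC g g b)) &&
    (aTwoBas.all fun b => aTwo.any fun a => Nat.beq a (cjC g g b))) = true := by decide +kernel

theorem s_center : (aOne.all fun a => Nat.beq a oneC || Nat.beq a zT || !(aTwo.any fun b => Nat.beq b a) ||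
    !(sGens.all fun g => Nat.beq (mm g a) (mm a g))) = true := by decide +kernel

/-- The six counts separating the two groups of order 64. -/
theorem count_check : ((aOne.filter fun a => Nat.beq (cls a) 6).length = 24 ∧
    (aTwo.filter fun a => Nat.beq (cls a) 6).length = 0) ∧
    ((aOne.filter fun a => Nat.beq (cls a) 7).length = 0 ∧
      (aTwo.filter fun a => Nat.beq (cls a) 7).length = 24) := by decide +kernel

/-- The witnesses that the classes outside the core are not in a normal 2-subgroup. -/
def outWit : List (ℕ × ℕ × ℕ) :=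
  [(3, 4857921, 25313345), (5, 4857921, 25313345), (6, 4857921, 25313345), (7, 4472897, 4472897)]

theorem out_check : (outWit.all fun e => gdB e.2.1 e.2.2 && gdB e.2.2 e.2.1 &&
    force (mm (rep e.1) (cjC e.2.1 e.2.2 (rep e.1))) fun p =>
      !(Nat.beq p oneC) && Nat.beq (mm (mm p p) p) oneC) = true ∧ outWit.map Prod.fst = [3, 5, 6, 7] := by
  decide +kernel

end Cfsg.Agent.H98.Held
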