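import Cfsg.Agent.H98.Held.Sweep
import Cfsg.Agent.H98.Held.SweepCent
import Cfsg.Agent.H98.Held.Tables
import Cfsg.Agent.Linear.Order

/-!
The involutions, the Sylow subgroup and the two groups of order 64 inside a group with the involution centraliser.
-/

set_option autoImplicit false

namespace Cfsg.Agent.H98.Held

open Subgroup

theorem mem_of_any {l : List ℕ} {a : ℕ} (h : (l.any fun b => Nat.beq b a) = true) : a ∈ l := by
  obtain ⟨b, hb, e⟩ := List.any_eq_true.1 h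
  rwa [← Nat.eq_of_beq_eq_true e]

theorem any_of_mem {l : List ℕ} {a : ℕ} (h : a ∈ l) : (l.any fun b => Nat.beq b a) = true :=
  List.any_eq_true.2 ⟨a, h, Nat.beq_refl a⟩

theorem beq_ne {a b : ℕ} : Nat.beq a b = false ↔ a ≠ b := by
  refine ⟨fun h e => ?_, fun h => ?_⟩
  · rw [e, Nat.beq_refl] at h; exact absurd h (by simp)
  · by_contra hb
    exact h (Nat.eq_of_beq_eq_true (by simpa using hb))

theorem sweep {p : ℕ} (hp : isC p = true) :
    (mm p p = oneC → p ≠ oneC → p ∈ invTab.map Prod.fst) ∧ (mm p p = zT → p ∈ rootsZ) ∧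
      (mm p p = rep 4 → p ∈ rootsFour) ∧ mm p p ≠ rep 5 := by
  obtain ⟨k, hk, rfl⟩ := exists_param hp
  have h := List.all_eq_true.1 sweep_check k (List.mem_range.2 hk)
  simp only [Cfsg.Agent.H45.force_eq, Bool.and_eq_true, Bool.or_eq_true, Bool.not_eq_true', beq_ne, Nat.beq_eq,
    memN, invL] at h
  obtain ⟨⟨⟨h1, h2⟩, h3⟩, h4⟩ := h
  refine ⟨fun e ne => ?_, fun e => ?_, fun e => ?_, h4⟩
  · rcases h1 with (h1 | h1) | h1
    exacts [absurd e h1, absurd h1 ne, mem_of_any h1]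
  · exact mem_of_any (h2.resolve_left fun hh => hh e)
  · exact mem_of_any (h3.resolve_left fun hh => hh e)

theorem mem_invTab {w : ℕ} (h : Gd w) (h2 : mm w w = oneC) (hne : w ≠ oneC) : ∃ e ∈ invTab, e.1 = w := by
  obtain ⟨e, he, rfl⟩ := List.mem_map.1 ((sweep h.isC).1 h2 hne)
  exact ⟨e, he, rfl⟩

theorem tab_spec {e : ℕ × ℕ × ℕ × ℕ} (he : e ∈ invTab) : Gd e.1 ∧ mm e.1 e.1 = oneC ∧ Gd e.2.2.1 ∧ Gd e.2.2.2 ∧
    mm e.2.2.1 e.2.2.2 = oneC ∧ cjC e.2.2.1 e.2.2.2 (rep e.2.1) = e.1 ∧ e.2.1 < 8 ∧ cls e.1 = e.2.1 := by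
  have h := List.all_eq_true.1 tab_check e he
  have h' := List.all_eq_true.1 cls_check e he
  simp only [Bool.and_eq_true, Nat.beq_eq, Nat.ble_eq] at h h'
  obtain ⟨⟨⟨⟨h1, h2⟩, h3⟩, h4⟩, h5⟩ := h
  refine ⟨gd_of_gdB h1, ?_, gd_of_gdB h2, gd_of_gdB h3, ?_, h4, by omega, h'⟩
  · simp only [gdB, Bool.and_eq_true, Nat.beq_eq] at h1; exact h1.1.2
  · simp only [gdB, Bool.and_eq_true, Nat.beq_eq] at h2; exact h2.1.2

theorem rep_spec {k : ℕ} (hk : k < 8) : Gd (rep k) ∧ mm (rep k) (rep k) = oneC ∧ cls (rep k) = k := by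
  have hc : cls (rep k) = k := Nat.eq_of_beq_eq_true (List.all_eq_true.1 rep_check.1 k (List.mem_range.2 hk))
  have hm : rep k ∈ repL := by
    rw [rep, List.getD_eq_getElem _ _ (by rw [rep_check.2.2.2]; exact hk)]
    exact List.getElem_mem _
  obtain ⟨e, he, hee⟩ := List.any_eq_true.1 (List.all_eq_true.1 rep_check.2.2.1 _ hm)
  obtain ⟨h1, h2, -⟩ := tab_spec he
  rw [Nat.eq_of_beq_eq_true hee] at h1 h2
  exact ⟨h1, h2, hc⟩

theorem cls_lt {w : ℕ} (h : Gd w) (h2 : mm w w = oneC) (hne : w ≠ oneC) : cls w < 8 := by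
  obtain ⟨e, he, rfl⟩ := mem_invTab h h2 hne
  obtain ⟨-, -, -, -, -, -, hk, hc⟩ := tab_spec he
  rw [hc]; exact hk

theorem zT_facts : mm zT zT = oneC ∧ zT ≠ oneC ∧ cls zT = 0 := by
  refine ⟨?_, by decide, ?_⟩
  · rw [← rep_check.2.1]; exact (rep_spec (by norm_num)).2.1
  · rw [← rep_check.2.1]; exact (rep_spec (by norm_num)).2.2

/-- A list of codes of an elementary abelian group of order 64 containing the transvection. -/
structure Block (L : List ℕ) : Prop where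
  nodup : L.Nodup
  len : L.length = 64
  closed : ∀ a ∈ L, ∀ b ∈ L, mm a b ∈ L ∧ mm a b = mm b a
  sq : ∀ a ∈ L, Gd a ∧ mm a a = oneC
  hz : zT ∈ L
  one : oneC ∈ L

theorem block_of_check {L B : List ℕ} (h : L.Nodup ∧ L.length = 64 ∧
    (L.all fun a => L.all fun b => (L.any fun c => Nat.beq c (mm a b)) && Nat.beq (mm a b) (mm b a)) = true ∧
    (L.all fun a => Nat.beq (mm a a) oneC && gdB a a) = true ∧ (B.all fun b => L.any fun a => Nat.beq a b) = true ∧
    (L.any fun a => Nat.beq a zT) = true ∧ (L.any fun a => Nat.beq a oneC) = true) : Block L ∧ B ⊆ L := by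
  obtain ⟨h1, h2, h3, h4, h5, h6, h7⟩ := h
  refine ⟨⟨h1, h2, fun a ha b hb => ?_, fun a ha => ?_, mem_of_any h6, mem_of_any h7⟩,
    fun b hb => mem_of_any (List.all_eq_true.1 h5 b hb)⟩
  · have := List.all_eq_true.1 (List.all_eq_true.1 h3 a ha) b hb
    rw [Bool.and_eq_true] at this
    exact ⟨mem_of_any this.1, Nat.eq_of_beq_eq_true this.2⟩
  · have := List.all_eq_true.1 h4 a ha
    rw [Bool.and_eq_true] at this
    exact ⟨gd_of_gdB this.2, Nat.eq_of_beq_eq_true this.1⟩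

theorem block_one : Block aOne ∧ aOneBas ⊆ aOne := block_of_check aOne_check

theorem block_two : Block aTwo ∧ aTwoBas ⊆ aTwo := block_of_check aTwo_check

namespace Emb

universe u

variable {G : Type u} [Group G] (B : Emb G)

/-- Whether the involution with a given code is conjugate to the central one. -/
def IsZ (w : ℕ) : Prop := IsConj B.z (B.lf w)

theorem lf_cj {c ci w : ℕ} (hc : Gd c) (hci : Gd ci) (h : mm c ci = oneC) (hw : Gd w) :
    B.lf (cjC c ci w) = B.lf c * B.lf w * (B.lf c)⁻¹ := by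
  rw [cjC, B.lf_mul (hc.mul hw) hci, B.lf_mul hc hw]
  congr 1
  rw [eq_inv_iff_mul_eq_one]
  have := (congrArg B.lf h).trans B.lf_one
  rw [B.lf_mul hc hci] at this
  exact mul_eq_one_comm.1 this

theorem conj_rep {w : ℕ} (h : Gd w) (h2 : mm w w = oneC) (hne : w ≠ oneC) :
    ∃ c, Gd c ∧ B.lf c * B.lf (rep (cls w)) * (B.lf c)⁻¹ = B.lf w := by
  obtain ⟨e, he, rfl⟩ := mem_invTab h h2 hne
  obtain ⟨-, -, hc, hci, e1, e2, hk, hcl⟩ := tab_spec he
  refine ⟨e.2.2.1, hc, ?_⟩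
  rw [hcl, ← B.lf_cj hc hci e1 (rep_spec hk).1, e2]

theorem isZ_iff {w : ℕ} (h : Gd w) (h2 : mm w w = oneC) (hne : w ≠ oneC) :
    B.IsZ w ↔ B.IsZ (rep (cls w)) := by
  obtain ⟨c, -, e⟩ := B.conj_rep h h2 hne
  have hc : IsConj (B.lf (rep (cls w))) (B.lf w) := isConj_iff.2 ⟨B.lf c, e⟩
  exact ⟨fun hh => hh.trans hc.symm, fun hh => hh.trans hc⟩

theorem isZ_zero : B.IsZ (rep 0) := by
  rw [IsZ, rep_check.2.1, B.lf_z]

/-- The group with given block. -/
noncomputable def blockGrp (L : List ℕ) : Subgroup G := Subgroup.closure (B.lf '' {a | a ∈ L})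

theorem mem_blockGrp {L : List ℕ} (hL : Block L) {g : G} : g ∈ B.blockGrp L ↔ ∃ a ∈ L, B.lf a = g := by
  refine ⟨fun hg => ?_, fun ⟨a, ha, e⟩ => e ▸ subset_closure ⟨a, ha, rfl⟩⟩
  refine closure_induction ?_ ⟨oneC, hL.one, B.lf_one⟩ ?_ ?_ hg
  · rintro x ⟨a, ha, rfl⟩
    exact ⟨a, ha, rfl⟩
  · rintro x y - - ⟨a, ha, rfl⟩ ⟨b, hb, rfl⟩
    exact ⟨mm a b, (hL.closed a ha b hb).1, B.lf_mul (hL.sq a ha).1 (hL.sq b hb).1⟩
  · rintro x - ⟨a, ha, rfl⟩
    exact ⟨a, ha, eq_inv_iff_mul_eq_one.2 ((B.lf_sq_one (hL.sq a ha).1).2 (hL.sq a ha).2)⟩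

/-- The first group of order 64. -/
noncomputable def gA : Subgroup G := B.blockGrp aOne

/-- The second group of order 64. -/
noncomputable def gB : Subgroup G := B.blockGrp aTwo

theorem card_blockGrp {L : List ℕ} (hL : Block L) : Nat.card (B.blockGrp L) = 64 := by
  classical
  rw [← hL.len, ← List.toFinset_card_of_nodup hL.nodup, ← Fintype.card_coe, ← Nat.card_eq_fintype_card]
  refine (Nat.card_congr (Equiv.ofBijective (fun a : L.toFinset => (⟨B.lf a, (B.mem_blockGrp hL).2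
    ⟨a, List.mem_toFinset.1 a.2, rfl⟩⟩ : B.blockGrp L)) ⟨fun a b e => Subtype.ext (B.lf_inj
      (hL.sq _ (List.mem_toFinset.1 a.2)).1 (hL.sq _ (List.mem_toFinset.1 b.2)).1 (congrArg Subtype.val e)), ?_⟩)).symm
  rintro ⟨g, hg⟩
  obtain ⟨a, ha, rfl⟩ := (B.mem_blockGrp hL).1 hg
  exact ⟨⟨a, List.mem_toFinset.2 ha⟩, rfl⟩

theorem cent_block_list {p : ℕ} (hp : isC p = true) :
    ((∀ b ∈ aOneBas, mm p b = mm b p) → p ∈ aOne) ∧ ((∀ b ∈ aTwoBas, mm p b = mm b p) → p ∈ aTwo) := by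
  obtain ⟨k, hk, rfl⟩ := exists_param hp
  have h := List.all_eq_true.1 cent_check k (List.mem_range.2 hk)
  simp only [Cfsg.Agent.H45.force_eq, Bool.and_eq_true, Bool.or_eq_true, Bool.not_eq_true'] at h
  refine ⟨fun hh => ?_, fun hh => ?_⟩
  · refine mem_of_any (h.1.resolve_left fun hf => ?_)
    have : (aOneBas.reverse.all fun b => Nat.beq (mm (param k) b) (mm b (param k))) = true :=
      List.all_eq_true.2 fun b hb => by rw [hh b (List.mem_reverse.1 hb)]; exact Nat.beq_refl _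
    rw [this] at hf
    exact absurd hf (by simp)
  · refine mem_of_any (h.2.resolve_left fun hf => ?_)
    have : (aTwoBas.reverse.all fun b => Nat.beq (mm (param k) b) (mm b (param k))) = true :=
      List.all_eq_true.2 fun b hb => by rw [hh b (List.mem_reverse.1 hb)]; exact Nat.beq_refl _
    rw [this] at hf
    exact absurd hf (by simp)

theorem cent_block {L bas : List ℕ} (hL : Block L) (hbas : bas ⊆ L)
    (hlist : ∀ p, isC p = true → (∀ b ∈ bas, mm p b = mm b p) → p ∈ L) :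
    centralizer (B.blockGrp L : Set G) = B.blockGrp L := by
  refine le_antisymm (fun g hg => ?_) fun g hg => mem_centralizer_iff.2 fun x hx => ?_
  · have hz : B.z ∈ B.blockGrp L := (B.mem_blockGrp hL).2 ⟨zT, hL.hz, B.lf_z⟩
    obtain ⟨p, hp, rfl⟩ := B.exists_code (mem_centralizer_iff.1 hg B.z hz).symm
    refine (B.mem_blockGrp hL).2 ⟨p, hlist p hp.isC fun b hb => ?_, rfl⟩
    have hbL := hbas hb
    exact (B.lf_comm hp (hL.sq b hbL).1).1
      (mem_centralizer_iff.1 hg _ ((B.mem_blockGrp hL).2 ⟨b, hbL, rfl⟩)).symm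
  · obtain ⟨a, ha, rfl⟩ := (B.mem_blockGrp hL).1 hg
    obtain ⟨b, hb, rfl⟩ := (B.mem_blockGrp hL).1 hx
    exact (B.lf_comm (hL.sq b hb).1 (hL.sq a ha).1).2 (hL.closed b hb a ha).2

theorem cent_gA : centralizer (B.gA : Set G) = B.gA :=
  B.cent_block block_one.1 block_one.2 fun _ hp => (cent_block_list hp).1

theorem cent_gB : centralizer (B.gB : Set G) = B.gB :=
  B.cent_block block_two.1 block_two.2 fun _ hp => (cent_block_list hp).2

end Emb

end Cfsg.Agent.H98.Held
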