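import Cfsg.Agent.H98.Held.Syl

/-!
The two groups of order 64 are normal in the Sylow subgroup and not conjugate.
-/

set_option autoImplicit false
set_option linter.style.haveILetI false
set_option maxRecDepth 100000

namespace Cfsg.Agent.H98.Held

open Subgroup Matrix
open Cfsg.Agent.H45 (force)

/-- The span of a basis. -/
noncomputable def spanL (bs : List ℕ) : List ℕ := bs.foldl (fun L b => L ++ L.map fun x => mm b x) [oneC]

theorem span_check : spanL aOneBas = aOne ∧ spanL aTwoBas = aTwo := by decide +kernel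

theorem in_s_check : ((aOne ++ aTwo).all fun a =>
    Nat.ble (sIdx a + 1) 1024 && Nat.beq (sParam (sIdx a)) a) = true := by decide +kernel

/-- An entry of the nilpotent part in the second column. -/
def bz5 (a : ℕ) (i : Fin 5) : ZMod 2 := Cfsg.Agent.H45.J4Mat.bz (a.testBit (5 * i + 1)) - if i = 1 then 1 else 0

theorem rows_zero {a : ℕ} (ha : a < 2 ^ 25) (h1 : a / 32 % 32 = 2) (h3 : a / 32768 % 32 = 8) (h4 : a / 1048576 = 16)
    (j : Fin 5) : (mt a - 1) 1 j = 0 ∧ (mt a - 1) 3 j = 0 ∧ (mt a - 1) 4 j = 0 := by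
  have key : ∀ (i : Fin 5) (r : ℕ), a / 2 ^ (5 * (i : ℕ)) % 32 = r → r = 2 ^ (i : ℕ) → (mt a - 1) i j = 0 := by
    intro i r hr he
    have hb : a.testBit (5 * (i : ℕ) + j) = decide ((i : ℕ) = j) := by
      rw [Nat.add_comm, ← Nat.testBit_div_two_pow]
      have : (a / 2 ^ (5 * (i : ℕ)) % 2 ^ 5).testBit j = (a / 2 ^ (5 * (i : ℕ))).testBit j := by
        rw [Nat.testBit_mod_two_pow, decide_eq_true j.2, Bool.true_and]
      rw [← this, show (2 : ℕ) ^ 5 = 32 from rfl, hr, he, Nat.testBit_two_pow]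
    rw [Matrix.sub_apply, Matrix.one_apply]
    show Cfsg.Agent.H45.J4Mat.bz _ - _ = 0
    rw [hb]
    by_cases e : i = j
    · subst e; simp [Cfsg.Agent.H45.J4Mat.bz]
    · simp [Cfsg.Agent.H45.J4Mat.bz, e, Fin.val_ne_of_ne e]
  refine ⟨key 1 _ h1 rfl, key 3 _ h3 rfl, key 4 _ ?_ rfl⟩
  show a / 1048576 % 32 = 16
  omega

/-- Five members of the second block with distinct second columns. -/
def colFive : List ℕ := [17043523, 17045569, 17045571, 17109057, 17109059]

theorem col_check : (colFive.all fun a => aTwo.any fun b => Nat.beq b a) = true ∧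
    (colFive.map fun a i => bz5 a i).Nodup ∧
    (aOne.all fun a => Nat.beq (a / 32 % 32) 2 && Nat.beq (a / 32768 % 32) 8 && Nat.beq (a / 1048576) 16) = true := by
  decide +kernel

namespace Emb

universe u

variable {G : Type u} [Group G] (B : Emb G)

theorem blockGrp_span {bs : List ℕ} (hgd : ∀ b ∈ bs, Gd b) (hL : Block (spanL bs)) :
    B.blockGrp (spanL bs) = B.blockGrp bs := by
  have key : ∀ (l L : List ℕ), (∀ b ∈ l, b ∈ bs) → (∀ a ∈ L, Gd a ∧ B.lf a ∈ B.blockGrp bs) →
      ∀ a ∈ l.foldl (fun L b => L ++ L.map fun x => mm b x) L, Gd a ∧ B.lf a ∈ B.blockGrp bs := by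
    intro l
    induction l with
    | nil => exact fun _ _ hh => hh
    | cons b l ih =>
      intro L hl hh
      refine ih _ (fun x hx => hl x (List.mem_cons_of_mem _ hx)) fun a ha => ?_
      rcases List.mem_append.1 ha with ha | ha
      · exact hh a ha
      · obtain ⟨x, hx, rfl⟩ := List.mem_map.1 ha
        have hb := hl b List.mem_cons_self
        refine ⟨(hgd b hb).mul (hh x hx).1, ?_⟩
        rw [B.lf_mul (hgd b hb) (hh x hx).1]
        exact mul_mem (subset_closure ⟨b, hb, rfl⟩) (hh x hx).2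
  have hall := key bs [oneC] (fun _ hb => hb) (by
    intro a ha
    rw [List.mem_singleton.1 ha, B.lf_one]
    exact ⟨gd_one, one_mem _⟩)
  refine le_antisymm ((closure_le _).2 ?_) ((closure_le _).2 ?_)
  · rintro x ⟨a, ha, rfl⟩
    exact (hall a ha).2
  · have mem : ∀ (l L : List ℕ) (a : ℕ), a ∈ L → a ∈ l.foldl (fun L b => L ++ L.map fun x => mm b x) L := by
      intro l
      induction l with
      | nil => exact fun _ _ hh => hh
      | cons b l ih => exact fun L a ha => ih _ a (List.mem_append_left _ ha)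
    have mem2 : ∀ (l L : List ℕ), oneC ∈ L → ∀ b ∈ l, mm b oneC ∈ l.foldl (fun L b => L ++ L.map fun x => mm b x) L := by
      intro l
      induction l with
      | nil => exact fun _ _ b hb => absurd hb List.not_mem_nil
      | cons c l ih =>
        intro L h1 b hb
        rcases List.mem_cons.1 hb with rfl | hb
        · exact mem l _ _ (List.mem_append_right _ (List.mem_map.2 ⟨_, h1, rfl⟩))
        · exact ih _ (List.mem_append_left _ h1) b hb
    rintro x ⟨b, hb, rfl⟩
    refine (B.mem_blockGrp hL).2 ⟨_, mem2 bs [oneC] List.mem_cons_self b hb, ?_⟩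
    rw [B.lf_mul (hgd b hb) gd_one, B.lf_one, mul_one]

theorem gA_eq : B.gA = B.blockGrp aOneBas := by
  have h := B.blockGrp_span (bs := aOneBas) (fun b hb => (block_one.1.sq b (block_one.2 hb)).1)
    (span_check.1.symm ▸ block_one.1)
  rwa [span_check.1] at h

theorem gB_eq : B.gB = B.blockGrp aTwoBas := by
  have h := B.blockGrp_span (bs := aTwoBas) (fun b hb => (block_two.1.sq b (block_two.2 hb)).1)
    (span_check.2.symm ▸ block_two.1)
  rwa [span_check.2] at h

theorem sg_norm : B.sg ≤ normalizer (B.gA : Set G) ∧ B.sg ≤ normalizer (B.gB : Set G) := by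
  refine ⟨B.gen_norm block_one.1 block_one.2 B.gA_eq fun g hg b hb => ?_,
    B.gen_norm block_two.1 block_two.2 B.gB_eq fun g hg b hb => ?_⟩
  · have h := List.all_eq_true.1 a_normal g hg
    rw [Bool.and_eq_true] at h
    exact mem_of_any (List.all_eq_true.1 h.1 b hb)
  · have h := List.all_eq_true.1 a_normal g hg
    rw [Bool.and_eq_true] at h
    exact mem_of_any (List.all_eq_true.1 h.2 b hb)

theorem gA_le_sg : B.gA ≤ B.sg := by
  refine (closure_le _).2 ?_
  rintro x ⟨a, ha, rfl⟩
  have h := List.all_eq_true.1 in_s_check a (List.mem_append_left _ ha)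
  simp only [Bool.and_eq_true, Nat.ble_eq, Nat.beq_eq] at h
  rw [← h.2]
  exact B.lf_sParam_mem _ h.1

theorem gB_le_sg : B.gB ≤ B.sg := by
  refine (closure_le _).2 ?_
  rintro x ⟨a, ha, rfl⟩
  have h := List.all_eq_true.1 in_s_check a (List.mem_append_right _ ha)
  simp only [Bool.and_eq_true, Nat.ble_eq, Nat.beq_eq] at h
  rw [← h.2]
  exact B.lf_sParam_mem _ h.1

theorem cent_sg {x : G} (hx : x ∈ centralizer (B.sg : Set G)) : x = 1 ∨ x = B.z := by
  have hA : x ∈ centralizer (B.gA : Set G) := centralizer_le (SetLike.coe_subset_coe.2 B.gA_le_sg) hx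
  have hB : x ∈ centralizer (B.gB : Set G) := centralizer_le (SetLike.coe_subset_coe.2 B.gB_le_sg) hx
  rw [B.cent_gA] at hA
  rw [B.cent_gB] at hB
  obtain ⟨a, ha, rfl⟩ := (B.mem_blockGrp block_one.1).1 hA
  obtain ⟨b, hb, e⟩ := (B.mem_blockGrp block_two.1).1 hB
  have eab : b = a := B.lf_inj (block_two.1.sq b hb).1 (block_one.1.sq a ha).1 e
  have h := List.all_eq_true.1 s_center a ha
  simp only [Bool.or_eq_true, Nat.beq_eq, Bool.not_eq_true'] at h
  rcases h with ((rfl | rfl) | h) | h
  · exact Or.inl B.lf_one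
  · exact Or.inr B.lf_z
  · rw [← eab, any_of_mem hb] at h; exact absurd h (by simp)
  · exfalso
    have : (sGens.all fun g => Nat.beq (mm g a) (mm a g)) = true := List.all_eq_true.2 fun g hg => by
      rw [(B.lf_comm (gd_sGens hg).1 (block_one.1.sq a ha).1).1
        (mem_centralizer_iff.1 hx _ (subset_closure ⟨g, hg, rfl⟩))]
      exact Nat.beq_refl _
    rw [this] at h
    exact absurd h (by simp)

theorem not_conj_in_cent {c : G} (hc : c * B.z = B.z * c) (h : ∀ x ∈ B.gA, c * x * c⁻¹ ∈ B.gB) : False := by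
  classical
  obtain ⟨p, hp, rfl⟩ := B.exists_code hc
  obtain ⟨q, hq, hqe⟩ := B.exists_code (g := (B.lf p)⁻¹) (show (B.lf p)⁻¹ * B.z = B.z * (B.lf p)⁻¹ from
    ((show Commute (B.lf p) B.z from B.lf_comm_z hp).inv_left).eq)
  have hqp : mm q p = oneC := (B.lf_eq_one (hq.mul hp)).1 (by rw [B.lf_mul hq hp, hqe, inv_mul_cancel])
  have hsurj : ∀ b ∈ aTwo, ∃ a ∈ aOne, mm (mm p a) q = b := by
    have hcard : Nat.card B.gA = Nat.card B.gB := by
      rw [gA, gB, B.card_blockGrp block_one.1, B.card_blockGrp block_two.1]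
    haveI : Finite B.gB := Nat.finite_of_card_ne_zero (by rw [gB, B.card_blockGrp block_two.1]; norm_num)
    let f : B.gA → B.gB := fun x => ⟨B.lf p * x * (B.lf p)⁻¹, h x x.2⟩
    have hf : Function.Bijective f := (Nat.bijective_iff_injective_and_card f).2
      ⟨fun x y e => Subtype.ext (by simpa [f] using congrArg Subtype.val e), hcard⟩
    intro b hb
    obtain ⟨⟨x, hx⟩, e⟩ := hf.2 ⟨B.lf b, (B.mem_blockGrp block_two.1).2 ⟨b, hb, rfl⟩⟩
    obtain ⟨a, ha, rfl⟩ := (B.mem_blockGrp block_one.1).1 hx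
    refine ⟨a, ha, B.lf_inj ((hp.mul (block_one.1.sq a ha).1).mul hq) (block_two.1.sq b hb).1 ?_⟩
    rw [B.lf_mul (hp.mul (block_one.1.sq a ha).1) hq, B.lf_mul hp (block_one.1.sq a ha).1, hqe]
    exact congrArg Subtype.val e
  -- the second columns of the five members lie in an image of a set of four vectors
  let W : Finset (Fin 5 → ZMod 2) := Finset.univ.filter fun v => v 1 = 0 ∧ v 3 = 0 ∧ v 4 = 0
  let cols : List (Fin 5 → ZMod 2) := colFive.map fun a i => bz5 a i
  have hsub : cols.toFinset ⊆ W.image fun v => mt p *ᵥ v := by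
    intro v hv
    rw [List.mem_toFinset, List.mem_map] at hv
    obtain ⟨b, hb, rfl⟩ := hv
    obtain ⟨a, ha, e⟩ := hsurj b (mem_of_any (List.all_eq_true.1 col_check.1 b hb))
    have hval : (fun i => bz5 b i) = (mt b - 1) *ᵥ Pi.single 1 1 := by
      funext i
      rw [Matrix.mulVec_single_one, Matrix.col_apply, Matrix.sub_apply, Matrix.one_apply]
      rfl
    have hdec : mt b - 1 = mt p * ((mt a - 1) * mt q) := by
      rw [← e, mt_mm, mt_mm]
      have : mt p * mt q = 1 := by
        have h1 : mt q * mt p = 1 := by rw [← mt_mm, hqp, mt_one]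
        exact mul_eq_one_comm.1 h1
      rw [sub_mul, one_mul, mul_sub, this, mul_assoc]
    have hrow := List.all_eq_true.1 col_check.2.2 a ha
    refine Finset.mem_image.2 ⟨((mt a - 1) * mt q) *ᵥ Pi.single 1 1, ?_, ?_⟩
    · have hz : ∀ (j : Fin 5), (mt a - 1) 1 j = 0 ∧ (mt a - 1) 3 j = 0 ∧ (mt a - 1) 4 j = 0 := by
        intro j
        simp only [Bool.and_eq_true, Nat.beq_eq] at hrow
        exact rows_zero (isC_lt (block_one.1.sq a ha).1.isC) hrow.1.1 hrow.1.2 hrow.2 j
      refine Finset.mem_filter.2 ⟨Finset.mem_univ _, ?_, ?_, ?_⟩ <;>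
        simp [Matrix.mulVec_single_one, Matrix.mul_apply, (hz _).1, (hz _).2.1, (hz _).2.2]
    · rw [Matrix.mulVec_mulVec, ← hdec, hval]
  have h1 := (Finset.card_le_card hsub).trans Finset.card_image_le
  rw [List.toFinset_card_of_nodup col_check.2.1] at h1
  have h2 : W.card = 4 := by decide +kernel
  simp [cols, colFive, h2] at h1

end Emb

end Cfsg.Agent.H98.Held
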