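import Cfsg.Agent.H45.J4Mat

/-!
Packed matrices for the centraliser of a transvection in the special linear group of degree 5 over the field of two
elements.
-/

set_option autoImplicit false
set_option maxRecDepth 100000

namespace Cfsg.Agent.H98.Held

open Cfsg.Agent.H45.J4Mat Matrix

/-- The matrices. -/
abbrev M5 : Type := Matrix (Fin 5) (Fin 5) (ZMod 2)

/-- The matrix of a code. -/
abbrev mt (a : ℕ) : M5 := toMat 5 a

/-- The product of two codes. -/
noncomputable def mm (a b : ℕ) : ℕ := mulN 5 a b % 2 ^ 25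

/-- The code of the identity. -/
def oneC : ℕ := 1 + 2 * 32 + 4 * 32 ^ 2 + 8 * 32 ^ 3 + 16 * 32 ^ 4

/-- The code of the transvection. -/
def zT : ℕ := oneC + 2

/-- The codes of the centraliser of the transvection, allowing singular matrices. -/
def isC (a : ℕ) : Bool :=
  decide (a < 2 ^ 25) && decide (a % 2 = 1) && decide (a / 32 % 32 = 2) && decide (a / 1024 % 2 = 0) &&
    decide (a / 32768 % 2 = 0) && decide (a / 1048576 % 2 = 0)

/-- The code with given parameters. -/
def param (k : ℕ) : ℕ :=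
  (1 + 2 * (k % 16)) + 64 + 1024 * (2 * (k / 16 % 16)) + 32768 * (2 * (k / 256 % 16)) +
    1048576 * (2 * (k / 4096 % 16))

theorem mt_mm (a b : ℕ) : mt (mm a b) = mt a * mt b := by
  rw [← toMat_mulN]
  ext i j
  show bz _ = bz _
  rw [mm, Nat.testBit_mod_two_pow, decide_eq_true (by have := i.isLt; have := j.isLt; omega), Bool.true_and]

theorem mm_lt (a b : ℕ) : mm a b < 2 ^ 25 := Nat.mod_lt _ (by norm_num)

theorem mt_inj {a b : ℕ} (ha : a < 2 ^ 25) (hb : b < 2 ^ 25) (h : mt a = mt b) : a = b := by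
  refine Nat.eq_of_testBit_eq fun p => ?_
  rcases Nat.lt_or_ge p 25 with hp | hp
  · have h2 := congrFun (congrFun h ⟨p / 5, by omega⟩) ⟨p % 5, by omega⟩
    simp only [mt, toMat, Nat.div_add_mod] at h2
    revert h2
    cases a.testBit p <;> cases b.testBit p <;> simp [bz]
  · have hp2 : 2 ^ 25 ≤ 2 ^ p := Nat.pow_le_pow_right (by norm_num) hp
    rw [Nat.testBit_lt_two_pow (lt_of_lt_of_le ha hp2), Nat.testBit_lt_two_pow (lt_of_lt_of_le hb hp2)]

theorem mt_surj (M : M5) : ∃ a < 2 ^ 25, mt a = M := by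
  have hinj : Function.Injective fun a : Fin (2 ^ 25) => mt a := fun a b h => Fin.ext (mt_inj a.2 b.2 h)
  have hcard : Nat.card (Fin (2 ^ 25)) = Nat.card M5 := by
    rw [show Nat.card M5 = Nat.card (Fin 5 → Fin 5 → ZMod 2) from rfl, Nat.card_fin, Nat.card_fun,
      Nat.card_fun, Nat.card_fin, Nat.card_zmod]
    norm_num
  obtain ⟨a, ha⟩ := ((Nat.bijective_iff_injective_and_card _).2 ⟨hinj, hcard⟩).2 M
  exact ⟨a, a.2, ha⟩

/-- The code of a matrix. -/
noncomputable def code (M : M5) : ℕ := (mt_surj M).choose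

theorem code_lt (M : M5) : code M < 2 ^ 25 := (mt_surj M).choose_spec.1

theorem mt_code (M : M5) : mt (code M) = M := (mt_surj M).choose_spec.2

theorem code_mt {a : ℕ} (ha : a < 2 ^ 25) : code (mt a) = a := mt_inj (code_lt _) ha (mt_code _)

theorem code_mul (A B : M5) : code (A * B) = mm (code A) (code B) :=
  mt_inj (code_lt _) (mm_lt _ _) (by rw [mt_mm, mt_code, mt_code, mt_code])

theorem mt_one : mt oneC = 1 := by
  refine funext fun i => funext fun j => ?_
  show bz _ = _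
  fin_cases i <;> fin_cases j <;> decide +kernel

theorem mt_zT : mt zT = Matrix.transvection 0 1 1 := by
  refine funext fun i => funext fun j => ?_
  show bz _ = _
  fin_cases i <;> fin_cases j <;> decide +kernel

theorem code_one : code 1 = oneC :=
  mt_inj (code_lt _) (by decide) (by rw [mt_code, mt_one])

theorem isC_lt {a : ℕ} (h : isC a = true) : a < 2 ^ 25 := by
  simp only [isC, Bool.and_eq_true, decide_eq_true_eq] at h
  exact h.1.1.1.1.1

theorem digits16 {x0 x1 x2 x3 : ℕ} (l0 : x0 < 16) (l1 : x1 < 16) (l2 : x2 < 16) (l3 : x3 < 16) :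
    (x0 + 16 * x1 + 256 * x2 + 4096 * x3) % 16 = x0 ∧ (x0 + 16 * x1 + 256 * x2 + 4096 * x3) / 16 % 16 = x1 ∧
    (x0 + 16 * x1 + 256 * x2 + 4096 * x3) / 256 % 16 = x2 ∧
    (x0 + 16 * x1 + 256 * x2 + 4096 * x3) / 4096 % 16 = x3 := by
  refine ⟨?_, ?_, ?_, ?_⟩ <;> omega

theorem half_digit {y : ℕ} (hy : y < 32) (he : y % 2 = 0) : y = 2 * (y / 2 % 16) := by omega

theorem half_digit_one {y : ℕ} (hy : y < 32) (he : y % 2 = 1) : y = 1 + 2 * (y / 2 % 16) := by omega

theorem shift_digit (a k : ℕ) : a / k % 32 / 2 % 16 = a / (2 * k) % 16 := by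
  rw [Nat.mul_comm 2 k, ← Nat.div_div_eq_div_mul]
  generalize a / k = y
  omega

theorem digits32 {a : ℕ} (e25 : a < 2 ^ 25) (e0 : a % 2 = 1) (e1 : a / 32 % 32 = 2) (e2 : a / 1024 % 2 = 0)
    (e3 : a / 32768 % 2 = 0) (e4 : a / 1048576 % 2 = 0) :
    a = 1 + 2 * (a / 2 % 16) + 64 + 1024 * (2 * (a / 2048 % 16)) + 32768 * (2 * (a / 65536 % 16)) +
      1048576 * (2 * (a / 2097152 % 16)) := by
  have s0 : a % 32 / 2 % 16 = a / 2 % 16 := by simpa using shift_digit a 1
  have s2 : a / 1024 % 32 / 2 % 16 = a / 2048 % 16 := shift_digit a 1024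
  have s3 : a / 32768 % 32 / 2 % 16 = a / 65536 % 16 := shift_digit a 32768
  have s4 : a / 1048576 % 32 / 2 % 16 = a / 2097152 % 16 := shift_digit a 1048576
  have d1 : a / 32 / 32 = a / 1024 := Nat.div_div_eq_div_mul ..
  have d2 : a / 1024 / 32 = a / 32768 := Nat.div_div_eq_div_mul ..
  have d3 : a / 32768 / 32 = a / 1048576 := Nat.div_div_eq_div_mul ..
  have l4 : a / 1048576 < 32 := Nat.div_lt_of_lt_mul (by norm_num at e25 ⊢; exact e25)
  have m0 := Nat.mod_add_div a 32
  have m1 := Nat.mod_add_div (a / 32) 32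
  have m2 := Nat.mod_add_div (a / 1024) 32
  have m3 := Nat.mod_add_div (a / 32768) 32
  rw [d1] at m1
  rw [d2] at m2
  rw [d3] at m3
  have t0 := half_digit_one (y := a % 32) (Nat.mod_lt _ (by norm_num))
    (by rw [Nat.mod_mod_of_dvd _ (by norm_num : (2 : ℕ) ∣ 32)]; exact e0)
  have t2 := half_digit (y := a / 1024 % 32) (Nat.mod_lt _ (by norm_num))
    (by rw [Nat.mod_mod_of_dvd _ (by norm_num : (2 : ℕ) ∣ 32)]; exact e2)
  have t3 := half_digit (y := a / 32768 % 32) (Nat.mod_lt _ (by norm_num))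
    (by rw [Nat.mod_mod_of_dvd _ (by norm_num : (2 : ℕ) ∣ 32)]; exact e3)
  have t4 := half_digit (y := a / 1048576 % 32) (Nat.mod_lt _ (by norm_num))
    (by rw [Nat.mod_mod_of_dvd _ (by norm_num : (2 : ℕ) ∣ 32)]; exact e4)
  rw [s0] at t0
  rw [s2] at t2
  rw [s3] at t3
  rw [s4, Nat.mod_eq_of_lt l4] at t4
  generalize a / 2 % 16 = x0, a / 2048 % 16 = x1, a / 65536 % 16 = x2, a / 2097152 % 16 = x3,
    a % 32 = r0, a / 32 % 32 = r1, a / 1024 % 32 = r2, a / 32768 % 32 = r3, a / 32 = q1, a / 1024 = q2,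
    a / 32768 = q3, a / 1048576 = q4 at *
  omega

theorem exists_param {a : ℕ} (h : isC a = true) : ∃ k < 2 ^ 16, param k = a := by
  simp only [isC, Bool.and_eq_true, decide_eq_true_eq] at h
  refine ⟨a / 2 % 16 + 16 * (a / 2048 % 16) + 256 * (a / 65536 % 16) + 4096 * (a / 2097152 % 16),
    by omega, ?_⟩
  set x0 := a / 2 % 16 with h0
  set x1 := a / 2048 % 16 with h1
  set x2 := a / 65536 % 16 with h2
  set x3 := a / 2097152 % 16 with h3
  have l0 : x0 < 16 := Nat.mod_lt _ (by norm_num)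
  have l1 : x1 < 16 := Nat.mod_lt _ (by norm_num)
  have l2 : x2 < 16 := Nat.mod_lt _ (by norm_num)
  have l3 : x3 < 16 := Nat.mod_lt _ (by norm_num)
  obtain ⟨k0, k1, k2, k3⟩ := digits16 l0 l1 l2 l3
  simp only [param]
  rw [k0, k1, k2, k3, h0, h1, h2, h3]
  obtain ⟨⟨⟨⟨⟨e25, e0⟩, e1⟩, e2⟩, e3⟩, e4⟩ := h
  exact (digits32 e25 e0 e1 e2 e3 e4).symm

theorem isC_of_entries {a : ℕ} (ha : a < 2 ^ 25) (hcol : ∀ i : Fin 5, mt a i 0 = if i = 0 then 1 else 0)
    (hrow : ∀ j : Fin 5, mt a 1 j = if j = 1 then 1 else 0) : isC a = true := by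
  have hb : ∀ p : ℕ, a.testBit p = decide (a / 2 ^ p % 2 = 1) := fun p => Nat.testBit_eq_decide_div_mod_eq ..
  have key : ∀ {p : ℕ} {v : ZMod 2}, bz (a.testBit p) = v →
      (v = 1 → a / 2 ^ p % 2 = 1) ∧ (v = 0 → a / 2 ^ p % 2 = 0) := by
    intro p v h
    rw [hb] at h
    rcases Nat.mod_two_eq_zero_or_one (a / 2 ^ p) with e | e <;> rw [e] at h ⊢ <;> subst h <;> simp [bz]
  have c0 := (key (hcol 0)).1 (by simp)
  have c1 := (key (hcol 1)).2 (by simp)
  have c2 := (key (hcol 2)).2 (by simp)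
  have c3 := (key (hcol 3)).2 (by simp)
  have c4 := (key (hcol 4)).2 (by simp)
  have r1 := (key (hrow 1)).1 (by simp)
  have r2 := (key (hrow 2)).2 (by simp)
  have r3 := (key (hrow 3)).2 (by simp)
  have r4 := (key (hrow 4)).2 (by simp)
  simp only [isC, Bool.and_eq_true, decide_eq_true_eq]
  norm_num at c0 c1 c2 c3 c4 r1 r2 r3 r4 ⊢
  omega

/-- A matrix of the centraliser has a code in the list. -/
theorem isC_code {M : M5} (hd : M.det = 1) (hc : M * Matrix.transvection 0 1 1 = Matrix.transvection 0 1 1 * M) :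
    isC (code M) = true := by
  have e : ∀ i j, (M * (Matrix.single 0 1 1 : M5)) i j = ((Matrix.single 0 1 1 : M5) * M) i j := by
    intro i j
    have h := congrFun (congrFun hc i) j
    simp only [Matrix.transvection, Matrix.mul_add, Matrix.add_mul, Matrix.mul_one, Matrix.one_mul,
      Matrix.add_apply, add_right_inj] at h
    exact h
  have e00 : M 0 0 = M 1 1 := by simpa using e 0 1
  have ecol : ∀ i : Fin 5, i ≠ 0 → M i 0 = 0 := fun i hi => by simpa [hi] using e i 1
  have erow : ∀ j : Fin 5, j ≠ 1 → M 1 j = 0 := fun j hj => by simpa [hj] using (e 0 j).symm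
  have h00 : M 0 0 = 1 := by
    by_contra hne
    have h0 : M 0 0 = 0 := by
      revert hne; generalize M 0 0 = x; revert x; decide
    rw [Matrix.det_eq_zero_of_column_eq_zero (j := (0 : Fin 5)) fun i => by
      rcases eq_or_ne i 0 with rfl | hi
      exacts [h0, ecol i hi]] at hd
    exact zero_ne_one hd
  refine isC_of_entries (code_lt _) (fun i => ?_) fun j => ?_
  · rw [mt_code]
    split_ifs with hi
    exacts [hi ▸ h00, ecol i hi]
  · rw [mt_code]
    split_ifs with hj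
    exacts [by rw [hj, ← e00, h00], erow j hj]

end Cfsg.Agent.H98.Held
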