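import Cfsg.Agent.H98.Held.ComplCheck
import Cfsg.Agent.H67.Held.Real

/-!
The class of the complement inside the normaliser of a group of order 64.
-/

set_option autoImplicit false

namespace Cfsg.Agent.H98.Held

open Subgroup Cfsg.Agent.H67.Held

attribute [local irreducible] mm oneC zT cls lin

theorem gdB_iff {a b : ℕ} (h : gdB a b = true) : Gd a ∧ mm a b = oneC := by
  refine ⟨gd_of_gdB h, ?_⟩
  simp only [gdB, Bool.and_eq_true, Nat.beq_eq] at h
  exact h.1.2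

namespace Cpl

variable {D : Cpl} {Z : List ℕ}

theorem len_el (h : D.okGen = true) : D.el.length = 64 := by
  simp only [Cpl.okGen, Bool.and_eq_true, Nat.beq_eq] at h
  exact h.1.1.1.2

theorem el_spec (h : D.okGen = true) {x : ℕ} (hx : x < 64) :
    D.el.getD x 0 ∈ D.L ∧ D.co (D.el.getD x 0) = x := by
  simp only [Cpl.okGen, Bool.and_eq_true, List.all_eq_true, List.mem_range] at h
  obtain ⟨h1, h2⟩ := h.1.1.1.1 x hx
  exact ⟨mem_of_any h1, Nat.eq_of_beq_eq_true h2⟩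

theorem gen_spec (h : D.okGen = true) {j : ℕ} (hj : j < 3) : D.q j < 48 ∧
    gdB (D.tab 0 (D.q j)) (D.tab 0 (D.q j)) = true ∧
    ∀ x < 64, D.T (D.q j) (D.T (D.q j) x) = x ∧
      cjC (D.tab 0 (D.q j)) (D.tab 0 (D.q j)) (D.el.getD x 0) = D.el.getD (D.T (D.q j) x) 0 := by
  simp only [Cpl.okGen, Bool.and_eq_true, List.all_eq_true, List.mem_range] at h
  obtain ⟨⟨⟨h1, h2⟩, h3⟩, h4⟩ := h.1.2 j hj
  exact ⟨Nat.le_of_ble_eq_true h1, h3, fun x hx =>
    ⟨Nat.eq_of_beq_eq_true (h2 x hx), Nat.eq_of_beq_eq_true (h4 x hx)⟩⟩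

theorem rel_spec (h : D.okGen = true) {w : List ℕ} (hw : w ∈ Cpl.relWords) {x : ℕ} (hx : x < 64) :
    w.foldr (fun j y => D.T (D.q j) y) x = x := by
  simp only [Cpl.okGen, Bool.and_eq_true, List.all_eq_true, List.mem_range] at h
  exact Nat.eq_of_beq_eq_true (h.2 w hw x hx)

theorem aut_spec (h : D.okAut Z = true) {i : ℕ} (hi : i < 48) : LinAut Z (D.T i) ∧ D.T i 1 = 1 := by
  simp only [Cpl.okAut, Bool.and_eq_true, List.all_eq_true, List.mem_range] at h
  exact ⟨linOK_sound (h i hi).1, Nat.eq_of_beq_eq_true (h i hi).2⟩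

theorem tree_zero (h : D.okTree = true) : ∀ x < 64, D.T 0 x = x := by
  simp only [Cpl.okTree, Bool.and_eq_true, List.all_eq_true, List.mem_range] at h
  exact fun x hx => Nat.eq_of_beq_eq_true (h.1.1 x hx)

theorem tab_base (h : D.okTree = true) {c : ℕ} (hc : c < 4) : D.tab c 0 = oneC ∧
    ∀ j < 3, gdB (D.tab c (D.q j)) (D.tab c (D.q j)) = true := by
  simp only [Cpl.okTree, Bool.and_eq_true, List.all_eq_true, List.mem_range] at h
  exact ⟨Nat.eq_of_beq_eq_true (h.1.2 c hc).1, (h.1.2 c hc).2⟩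

theorem tree_spec (h : D.okTree = true) {i : ℕ} (hi : i < 48) (h0 : i ≠ 0) : ∃ g p, g < 3 ∧ p < i ∧
    (∀ x < 64, D.T i x = D.T (D.q g) (D.T p x)) ∧
    ∀ c < 4, D.tab c i = mm (D.tab c (D.q g)) (D.tab c p) := by
  simp only [Cpl.okTree, Bool.and_eq_true, Bool.or_eq_true, List.all_eq_true, List.mem_range,
    Cfsg.Agent.H45.force_eq] at h
  rcases h.2 i hi with h1 | ⟨⟨⟨h1, h2⟩, h3⟩, h4⟩
  · exact absurd (Nat.eq_of_beq_eq_true h1) h0
  · exact ⟨_, _, Nat.le_of_ble_eq_true h1, Nat.le_of_ble_eq_true h2,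
      fun x hx => Nat.eq_of_beq_eq_true (h3 x hx), fun c hc => Nat.eq_of_beq_eq_true (h4 c hc)⟩

theorem cand_spec (h : D.okCand = true) {t0 t1 t2 : ℕ} (h0 : t0 ∈ D.cand 0) (h1 : t1 ∈ D.cand 1)
    (h2 : t2 ∈ D.cand 2) (hp : mm (mm t0 t1) (mm t0 t1) = oneC)
    (hw : ∀ w ∈ Cpl.relWords, w.foldr (fun j y => mm ([t0, t1, t2].getD j 0) y) oneC = oneC) :
    ∃ c < 4, ∃ b ∈ D.el, ∀ j < 3, cjC b b (D.tab c (D.q j)) = [t0, t1, t2].getD j 0 := by
  simp only [Cpl.okCand, List.all_eq_true, Bool.or_eq_true, Bool.not_eq_true',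
    Cfsg.Agent.H45.force_eq] at h
  rcases h t0 h0 t1 h1 with e | e
  · rw [hp] at e; exact absurd e (by simp)
  rcases e t2 h2 with e' | e'
  · obtain ⟨w, hw', e''⟩ := List.all_eq_false.1 e'
    rw [hw w hw'] at e''; simp at e''
  simp only [List.any_eq_true, List.mem_range, Bool.and_eq_true] at e'
  obtain ⟨c, hc, b, hb, ⟨g0, g1⟩, g2⟩ := e'
  refine ⟨c, hc, b, hb, fun j hj => ?_⟩
  rcases j with _ | _ | _ | j
  · exact Nat.eq_of_beq_eq_true g0
  · exact Nat.eq_of_beq_eq_true g1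
  · exact Nat.eq_of_beq_eq_true g2
  · omega

theorem mask_spec {m c0 c : ℕ} (h : D.okMask Z m c0 = true) (hc : c < 4) (hne : c ≠ c0) :
    ∃ imgs k k' x, LinAut Z (lin imgs) ∧ k < 48 ∧ k' < 48 ∧ x < 64 ∧
      (∀ y < 64, lin imgs (D.T k y) = D.T k' (lin imgs y)) ∧
      mm (mm (D.el.getD x 0) (D.tab c k)) (mm (D.el.getD x 0) (D.tab c k)) = oneC ∧
      mm (D.el.getD x 0) (D.tab c k) ≠ oneC ∧
      inK m (cls (mm (D.el.getD x 0) (D.tab c k))) ≠
        inK m (cls (mm (D.el.getD (lin imgs x) 0) (D.tab c k'))) := by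
  simp only [Cpl.okMask, Bool.and_eq_true, Bool.or_eq_true, List.all_eq_true, List.any_eq_true,
    List.mem_range, Bool.not_eq_true', Cfsg.Agent.H45.force_eq] at h
  rcases h.2 c hc with e | ⟨e, -, ⟨⟨⟨⟨⟨-, h1⟩, h2⟩, h3⟩, h4⟩, h5⟩, ⟨h6, h7⟩, h8⟩
  · exact absurd (Nat.eq_of_beq_eq_true e) hne
  refine ⟨_, _, _, _, linOK_sound h1, Nat.le_of_ble_eq_true h2, Nat.le_of_ble_eq_true h3,
    Nat.le_of_ble_eq_true h4, fun y hy => Nat.eq_of_beq_eq_true (h5 y hy),
    Nat.eq_of_beq_eq_true h6, beq_ne.1 h7, ?_⟩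
  intro e'
  rw [e'] at h8
  simp at h8

end Cpl

universe u

variable {G : Type u} [Group G] [Finite G] {B : Emb G} {D : Cpl} {Z : List ℕ}

omit [Finite G] in
theorem pt_el (hC : Coord D.L D.co) (hg : D.okGen = true) {x : ℕ} (hx : x < 64) :
    pt B D.L D.co x = B.lf (D.el.getD x 0) ∧ Gd (D.el.getD x 0) ∧
      mm (D.el.getD x 0) (D.el.getD x 0) = oneC := by
  obtain ⟨h1, h2⟩ := Cpl.el_spec hg hx
  refine ⟨?_, hC.block.sq _ h1⟩
  conv_lhs => rw [← h2]
  exact pt_co B hC h1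

/-- the lift of a generator is one of the candidates -/
theorem lift_gen (S : Setup B D.L D.co Z) (hg : D.okGen = true) (ha : D.okAut Z = true) {j : ℕ}
    (hj : j < 3) : ∃ a, Gd a ∧ a ∈ D.cand j ∧ B.lf a = S.lift (D.T (D.q j)) := by
  obtain ⟨hq, ht, hs⟩ := Cpl.gen_spec hg hj
  obtain ⟨hf, -⟩ := Cpl.aut_spec ha hq
  obtain ⟨htg, htt⟩ := gdB_iff ht
  have hconj : ∀ x < 64, B.lf (D.tab 0 (D.q j)) * pt B D.L D.co x * (B.lf (D.tab 0 (D.q j)))⁻¹ =
      pt B D.L D.co (D.T (D.q j) x) := fun x hx => by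
    rw [(pt_el S.coord hg hx).1, (pt_el S.coord hg (hf.lt x hx)).1, ← (hs x hx).2,
      B.lf_cj htg htg htt (pt_el (B := B) S.coord hg hx).2.1]
  have hN : B.lf (D.tab 0 (D.q j)) ∈ normalizer (B.blockGrp D.L : Set G) := by
    refine mem_normalizer_fintype fun y hy => ?_
    obtain ⟨h1, h2⟩ := pt_crd B S.coord hy
    rw [← h2, hconj _ h1]
    exact pt_mem B S.coord (hf.lt _ h1)
  have hact : ∀ x < 64, act B D.L D.co (B.lf (D.tab 0 (D.q j))) x = D.T (D.q j) x := fun x hx =>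
    (act_eq B S.coord hN hx (hf.lt x hx)).2 (hconj x hx)
  obtain ⟨b, hb, e⟩ := exists_pt_of_act_eq B S.coord S.cent (S.lift_mem hf) hN fun x hx =>
    ((S.lift_spec hf).2 x hx).trans (hact x hx).symm
  obtain ⟨eb, hbg, -⟩ := pt_el (B := B) S.coord hg hb
  rw [eb, ← B.lf_mul hbg htg] at e
  refine ⟨_, hbg.mul htg, ?_, e.symm⟩
  rw [Cpl.cand, List.mem_filter]
  refine ⟨List.mem_map.2 ⟨_, ?_, rfl⟩, ?_⟩
  · rw [List.getD_eq_getElem _ _ ((Cpl.len_el hg).symm ▸ hb)]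
    exact List.getElem_mem _
  · rw [Nat.beq_eq, ← B.lf_sq_one (hbg.mul htg), ← e, ← S.lift_mul hf hf]
    exact S.lift_one (hf.comp hf) fun x hx => (hs x hx).1

omit [Finite G] in
/-- words in the generators -/
theorem lift_word (S : Setup B D.L D.co Z) (hg : D.okGen = true) (ha : D.okAut Z = true)
    (hid : LinAut Z id) {a : ℕ → ℕ}
    (hgd : ∀ j < 3, Gd (a j) ∧ B.lf (a j) = S.lift (D.T (D.q j))) :
    ∀ w : List ℕ, (∀ j ∈ w, j < 3) → ∃ f, LinAut Z f ∧
      (∀ x, f x = w.foldr (fun j y => D.T (D.q j) y) x) ∧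
      Gd (w.foldr (fun j y => mm (a j) y) oneC) ∧
      S.lift f = B.lf (w.foldr (fun j y => mm (a j) y) oneC) := by
  intro w
  induction w with
  | nil =>
    intro _
    refine ⟨id, hid, fun x => by rw [List.foldr_nil, id_eq], ?_, ?_⟩
    · rw [List.foldr_nil]; exact gd_one
    · rw [List.foldr_nil, B.lf_one, S.lift_one hid fun x _ => id_eq x]
  | cons j w ih =>
    intro h
    have hj : j < 3 := h j List.mem_cons_self
    obtain ⟨f, hf, hfx, hfg, hfl⟩ := ih fun i hi => h i (List.mem_cons_of_mem _ hi)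
    have hq := (Cpl.aut_spec ha (Cpl.gen_spec hg hj).1).1
    refine ⟨D.T (D.q j) ∘ f, hq.comp hf, fun x => ?_, (hgd j hj).1.mul hfg, ?_⟩
    · simp only [Function.comp_apply, List.foldr_cons, hfx]
    · rw [List.foldr_cons, B.lf_mul (hgd j hj).1 hfg, S.lift_mul hq hf, hfl, (hgd j hj).2]

/-- one of the four classes -/
theorem exists_class (S : Setup B D.L D.co Z) (hg : D.okGen = true) (ht : D.okTree = true)
    (hk : D.okCand = true) (ha : D.okAut Z = true) :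
    ∃ c < 4, ∃ x < 64, ∀ i < 48, Gd (D.tab c i) ∧
      pt B D.L D.co x * S.lift (D.T i) * pt B D.L D.co x = B.lf (D.tab c i) := by
  classical
  have hid : LinAut Z id := ⟨fun _ h => h, fun _ _ _ _ => rfl, fun _ _ _ _ h => h, fun _ h => h⟩
  choose a hag hac hal using fun j : Fin 3 => lift_gen S hg ha j.isLt
  let t : ℕ → ℕ := fun j => [a 0, a 1, a 2].getD j 0
  have htj : ∀ j < 3, Gd (t j) ∧ B.lf (t j) = S.lift (D.T (D.q j)) := by
    intro j hj
    rcases j with _ | _ | _ | j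
    · exact ⟨hag 0, hal 0⟩
    · exact ⟨hag 1, hal 1⟩
    · exact ⟨hag 2, hal 2⟩
    · omega
  have hw : ∀ w ∈ Cpl.relWords, w.foldr (fun j y => mm (t j) y) oneC = oneC := by
    intro w hw
    have hlt : ∀ j ∈ w, j < 3 := by
      simp only [Cpl.relWords, List.mem_cons, List.not_mem_nil, or_false] at hw
      rcases hw with rfl | rfl | rfl | rfl <;> decide
    obtain ⟨f, hf, hfx, hfg, hfl⟩ := lift_word S hg ha hid htj w hlt
    refine (B.lf_eq_one hfg).1 (hfl ▸ S.lift_one hf fun x hx => ?_)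
    rw [hfx x, Cpl.rel_spec hg hw hx]
  have hp : mm (mm (a 0) (a 1)) (mm (a 0) (a 1)) = oneC := by
    have h := hw [0, 1, 0, 1] (by simp [Cpl.relWords])
    simp only [List.foldr_cons, List.foldr_nil, t, List.getD_cons_zero, List.getD_cons_succ] at h
    have e := congrArg B.lf h
    have g0 := hag 0
    have g1 := hag 1
    rw [B.lf_mul g0 (g1.mul (g0.mul (g1.mul gd_one))), B.lf_mul g1 (g0.mul (g1.mul gd_one)),
      B.lf_mul g0 (g1.mul gd_one), B.lf_mul g1 gd_one, B.lf_one, mul_one] at e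
    refine (B.lf_eq_one ((g0.mul g1).mul (g0.mul g1))).1 ?_
    rw [B.lf_mul (g0.mul g1) (g0.mul g1), B.lf_mul g0 g1]
    simpa only [mul_assoc] using e
  obtain ⟨c, hc, b, hb, hcb⟩ := Cpl.cand_spec hk (hac 0) (hac 1) (hac 2) hp hw
  obtain ⟨x, hx, rfl⟩ := List.getElem_of_mem hb
  have hx' : x < 64 := Cpl.len_el hg ▸ hx
  obtain ⟨eb, hbg, hbb⟩ := pt_el (B := B) S.coord hg hx'
  rw [List.getD_eq_getElem _ _ hx] at eb hbg hbb
  have hinv : (pt B D.L D.co x)⁻¹ = pt B D.L D.co x := pt_inv B S.coord hx'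
  have hP : pt B D.L D.co x * pt B D.L D.co x = 1 := by
    nth_rewrite 1 [← hinv]; exact inv_mul_cancel _
  have hgen : ∀ j < 3, pt B D.L D.co x * S.lift (D.T (D.q j)) * pt B D.L D.co x =
      B.lf (D.tab c (D.q j)) := by
    intro j hj
    have hgd := gd_of_gdB ((Cpl.tab_base ht hc).2 j hj)
    rw [← (htj j hj).2, show t j = cjC D.el[x] D.el[x] (D.tab c (D.q j)) from (hcb j hj).symm,
      B.lf_cj hbg hbg hbb hgd, ← eb, hinv]
    calc pt B D.L D.co x * (pt B D.L D.co x * B.lf (D.tab c (D.q j)) * pt B D.L D.co x) *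
          pt B D.L D.co x
        = pt B D.L D.co x * pt B D.L D.co x * B.lf (D.tab c (D.q j)) *
          (pt B D.L D.co x * pt B D.L D.co x) := by simp only [mul_assoc]
      _ = _ := by rw [hP, one_mul, mul_one]
  refine ⟨c, hc, x, hx', fun i => ?_⟩
  induction i using Nat.strong_induction_on with
  | _ i ih =>
    intro hi
    rcases eq_or_ne i 0 with rfl | h0
    · rw [(Cpl.tab_base ht hc).1, B.lf_one,
        S.lift_one (Cpl.aut_spec ha hi).1 (Cpl.tree_zero ht), mul_one]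
      exact ⟨gd_one, hP⟩
    · obtain ⟨g, p, hg3, hpi, hT, htab⟩ := Cpl.tree_spec ht hi h0
      obtain ⟨hpg, hpe⟩ := ih p hpi (hpi.trans hi)
      have hqg := gd_of_gdB ((Cpl.tab_base ht hc).2 g hg3)
      have hfq := (Cpl.aut_spec ha (Cpl.gen_spec hg hg3).1).1
      have hfp := (Cpl.aut_spec ha (hpi.trans hi)).1
      rw [htab c hc]
      refine ⟨hqg.mul hpg, ?_⟩
      rw [B.lf_mul hqg hpg, ← hgen g hg3, ← hpe,
        S.lift_congr (Cpl.aut_spec ha hi).1 (hfq.comp hfp) hT, S.lift_mul hfq hfp]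
      calc pt B D.L D.co x * (S.lift (D.T (D.q g)) * S.lift (D.T p)) * pt B D.L D.co x
          = pt B D.L D.co x * S.lift (D.T (D.q g)) * 1 * S.lift (D.T p) * pt B D.L D.co x := by
            simp only [mul_assoc, one_mul]
        _ = _ := by rw [← hP]; simp only [mul_assoc]

theorem exists_good (S : Setup B D.L D.co Z) (hg : D.okGen = true) (ht : D.okTree = true)
    (hk : D.okCand = true) (ha : D.okAut Z = true) {m c0 : ℕ} (hmask : D.okMask Z m c0 = true)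
    (hm : ∀ k < 8, B.IsZ (rep k) ↔ inK m k = true) :
    ∃ x < 64, ∀ i < 48, Gd (D.tab c0 i) ∧
      pt B D.L D.co x * S.lift (D.T i) * pt B D.L D.co x = B.lf (D.tab c0 i) := by
  obtain ⟨c, hc, x, hx, hall⟩ := exists_class S hg ht hk ha
  by_contra hne'
  have hne : c ≠ c0 := fun e => hne' ⟨x, hx, e ▸ hall⟩
  obtain ⟨imgs, k, k', y, hh, hk1, hk2, hy, hcomm, hXX, hX1, hdiff⟩ := Cpl.mask_spec hmask hc hne
  obtain ⟨hTg, hTe⟩ := hall k hk1
  obtain ⟨hUg, hUe⟩ := hall k' hk2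
  obtain ⟨ey, hyg, -⟩ := pt_el (B := B) S.coord hg hy
  obtain ⟨ez, hzg, -⟩ := pt_el (B := B) S.coord hg (hh.lt y hy)
  have hX : Gd (mm (D.el.getD y 0) (D.tab c k)) := hyg.mul hTg
  have hY : Gd (mm (D.el.getD (lin imgs y) 0) (D.tab c k')) := hzg.mul hUg
  have hT1 := (Cpl.aut_spec ha hk1).1
  have hT2 := (Cpl.aut_spec ha hk2).1
  set P := pt B D.L D.co x with hPdef
  set H := S.lift (lin imgs) with hHdef
  have hinv : P⁻¹ = P := pt_inv B S.coord hx
  have hP : P * P = 1 := by nth_rewrite 1 [← hinv]; exact inv_mul_cancel _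
  have e1 : H * S.lift (D.T k) = S.lift (D.T k') * H := by
    rw [hHdef, ← S.lift_mul hh hT1, ← S.lift_mul hT2 hh]
    exact S.lift_congr (hh.comp hT1) (hT2.comp hh) hcomm
  have e2 : H * pt B D.L D.co y = pt B D.L D.co (lin imgs y) * H :=
    mul_inv_eq_iff_eq_mul.1 (S.lift_conj hh hy)
  have comm : ∀ {w : ℕ}, w < 64 → P * pt B D.L D.co w = pt B D.L D.co w * P := fun {w} hw => by
    rw [hPdef, ← pt_xor B S.coord hx hw, Nat.xor_comm, pt_xor B S.coord hw hx]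
  have key : (P * H * P) * B.lf (mm (D.el.getD y 0) (D.tab c k)) =
      B.lf (mm (D.el.getD (lin imgs y) 0) (D.tab c k')) * (P * H * P) := by
    rw [B.lf_mul hyg hTg, B.lf_mul hzg hUg, ← ey, ← ez, ← hTe, ← hUe]
    calc P * H * P * (pt B D.L D.co y * (P * S.lift (D.T k) * P))
        = P * H * ((P * pt B D.L D.co y) * P) * (S.lift (D.T k) * P) := by simp only [mul_assoc]
      _ = P * (H * pt B D.L D.co y) * (S.lift (D.T k) * P) := by
          rw [comm hy, mul_assoc _ P P, hP, mul_one]; simp only [mul_assoc]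
      _ = (P * pt B D.L D.co (lin imgs y)) * ((H * S.lift (D.T k)) * P) := by
          rw [e2]; simp only [mul_assoc]
      _ = pt B D.L D.co (lin imgs y) * (P * S.lift (D.T k')) * 1 * (H * P) := by
          rw [e1, comm (hh.lt y hy)]; simp only [mul_assoc, one_mul]
      _ = _ := by rw [← hP]; simp only [mul_assoc]
  have hconj : IsConj (B.lf (mm (D.el.getD y 0) (D.tab c k)))
      (B.lf (mm (D.el.getD (lin imgs y) 0) (D.tab c k'))) :=
    isConj_iff.2 ⟨P * H * P, by rw [key, mul_inv_cancel_right]⟩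
  obtain ⟨g, hgc⟩ := isConj_iff.1 hconj
  have hYY : mm (mm (D.el.getD (lin imgs y) 0) (D.tab c k'))
      (mm (D.el.getD (lin imgs y) 0) (D.tab c k')) = oneC := by
    rw [← B.lf_sq_one hY, ← hgc, show ∀ u : G, g * u * g⁻¹ * (g * u * g⁻¹) = g * (u * u) * g⁻¹ from
      fun u => by group, (B.lf_sq_one hX).2 hXX]
    group
  have hY1 : mm (D.el.getD (lin imgs y) 0) (D.tab c k') ≠ oneC := fun e => hX1 <| by
    rw [← B.lf_eq_one hX]
    rw [e, B.lf_one] at hgc
    simpa using mul_inv_eq_one.1 hgc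
  refine hdiff (Bool.eq_iff_iff.2 ?_)
  rw [← hm _ (cls_lt hX hXX hX1), ← hm _ (cls_lt hY hYY hY1), ← B.isZ_iff hX hXX hX1,
    ← B.isZ_iff hY hYY hY1]
  exact ⟨fun h => h.trans hconj, fun h => h.trans hconj.symm⟩

end Cfsg.Agent.H98.Held
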