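import Cfsg.Agent.H98.Held.ComplTables

/-!
The checks for both sides.
-/

set_option autoImplicit false
set_option maxRecDepth 100000

namespace Cfsg.Agent.H98.Held

open Cfsg.Agent.H67.Held (Z21 Z45)

theorem gen_checks : cplOne.okGen = true ∧ cplTwo.okGen = true ∧ cplOne.okTree = true ∧ cplTwo.okTree = true := by
  decide +kernel

theorem cand_one : cplOne.okCand = true := by decide +kernel

theorem cand_two : cplTwo.okCand = true := by decide +kernel

theorem aut_checks : cplOne.okAut Z21 = true ∧ cplOne.okAut Z45 = true ∧ cplTwo.okAut Z21 = true ∧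
    cplTwo.okAut Z45 = true := by
  decide +kernel

theorem mask_one : cplOne.okMask Z21 7 0 = true ∧ cplOne.okMask Z45 15 0 = true ∧ cplOne.okMask Z21 23 3 = true ∧
    cplOne.okMask Z45 31 3 = true := by
  decide +kernel

theorem mask_two : cplTwo.okMask Z21 7 0 = true ∧ cplTwo.okMask Z21 15 3 = true ∧ cplTwo.okMask Z45 23 0 = true ∧
    cplTwo.okMask Z45 31 3 = true := by
  decide +kernel

end Cfsg.Agent.H98.Held
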