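import Cfsg.Agent.H67.Held.DMap
import Cfsg.Agent.H67.Held.Coord
import Cfsg.Agent.H98.Held.ClassTables
import Cfsg.Agent.H98.Held.ComplData

/-!
Checks on the four classes of complements.
-/

set_option autoImplicit false
set_option maxRecDepth 100000

namespace Cfsg.Agent.H98.Held

open Cfsg.Agent.H67.Held (linOK lin)
open Cfsg.Agent.H45 (force)

/-- The tables for one side. -/
structure Cpl where
  co : ℕ → ℕ
  L : List ℕ
  el : List ℕ
  gen : List ℕ
  tree : List (ℕ × ℕ)
  aut : List (List ℕ)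
  tabs : List (List ℕ)
  good : List (ℕ × ℕ)
  bad : List (ℕ × ℕ × List ℕ × ℕ × ℕ × ℕ)

/-- The first side. -/
def cplOne : Cpl :=
  ⟨Cfsg.Agent.H67.Held.co1, aOne, elOne, genOne, treeOne, autOne, tabsOne, goodOne, badOne⟩

/-- The second side. -/
def cplTwo : Cpl :=
  ⟨Cfsg.Agent.H67.Held.co2, aTwo, elTwo, genTwo, treeTwo, autTwo, tabsTwo, goodTwo, badTwo⟩

namespace Cpl

variable (D : Cpl)

/-- The map of a member. -/
def T (i : ℕ) : ℕ → ℕ := lin (D.aut.getD i [])

/-- A table entry. -/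
def tab (c i : ℕ) : ℕ := (D.tabs.getD c []).getD i 0

/-- The index of a generator. -/
def q (j : ℕ) : ℕ := D.gen.getD j 0

/-- The candidates for the lift of a generator. -/
noncomputable def cand (j : ℕ) : List ℕ :=
  (D.el.map fun a => mm a (D.tab 0 (D.q j))).filter fun t => Nat.beq (mm t t) oneC

/-- The relators. -/
def relWords : List (List ℕ) :=
  [[0, 1, 0, 1], [0, 2, 0, 2, 0, 2, 0, 2, 0, 2, 0, 2], [1, 2, 1, 2, 1, 2, 1, 2, 1, 2, 1, 2],
    [0, 1, 2, 0, 2, 0, 1, 2, 1, 2]]

/-- The coordinates and the generators. -/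
noncomputable def okGen : Bool :=
  (List.range 64).all (fun x => D.L.any (fun a => Nat.beq a (D.el.getD x 0)) && Nat.beq (D.co (D.el.getD x 0)) x) &&
  Nat.beq D.el.length 64 && Nat.beq D.gen.length 3 &&
  (List.range 3).all (fun j => Nat.ble (D.q j + 1) 48 &&
    (List.range 64).all (fun x => Nat.beq (D.T (D.q j) (D.T (D.q j) x)) x) &&
    gdB (D.tab 0 (D.q j)) (D.tab 0 (D.q j)) &&
    (List.range 64).all fun x => Nat.beq (cjC (D.tab 0 (D.q j)) (D.tab 0 (D.q j)) (D.el.getD x 0))
      (D.el.getD (D.T (D.q j) x) 0)) &&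
  relWords.all fun w => (List.range 64).all fun x => Nat.beq (w.foldr (fun j y => D.T (D.q j) y) x) x

/-- The tree and the tables. -/
noncomputable def okTree : Bool :=
  (List.range 64).all (fun x => Nat.beq (D.T 0 x) x) &&
  (List.range 4).all (fun c => Nat.beq (D.tab c 0) oneC &&
    (List.range 3).all fun j => gdB (D.tab c (D.q j)) (D.tab c (D.q j))) &&
  (List.range 48).all fun i => Nat.beq i 0 || force (D.tree.getD i (0, 0)).1 fun g =>
    force (D.tree.getD i (0, 0)).2 fun p => Nat.ble (g + 1) 3 && Nat.ble (p + 1) i &&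
      (List.range 64).all (fun x => Nat.beq (D.T i x) (D.T (D.q g) (D.T p x))) &&
      (List.range 4).all fun c => Nat.beq (D.tab c i) (mm (D.tab c (D.q g)) (D.tab c p))

/-- Every admissible triple is conjugate to one of the four. -/
noncomputable def okCand : Bool :=
  (D.cand 0).all fun t0 => (D.cand 1).all fun t1 => !(force (mm t0 t1) fun p => Nat.beq (mm p p) oneC) ||
    (D.cand 2).all fun t2 =>
      !(relWords.all fun w => Nat.beq (w.foldr (fun j y => mm ([t0, t1, t2].getD j 0) y) oneC) oneC) ||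
      (List.range 4).any fun c => D.el.any fun b => Nat.beq (cjC b b (D.tab c (D.q 0))) t0 &&
        Nat.beq (cjC b b (D.tab c (D.q 1))) t1 && Nat.beq (cjC b b (D.tab c (D.q 2))) t2

/-- The members preserve the orbit. -/
def okAut (Z : List ℕ) : Bool :=
  (List.range 48).all fun i => linOK Z (D.aut.getD i []) && Nat.beq (D.T i 1) 1

/-- The witnesses for a mask. -/
noncomputable def okMask (Z : List ℕ) (m c0 : ℕ) : Bool :=
  D.good.any (fun e => Nat.beq e.1 m && Nat.beq e.2 c0) &&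
  (List.range 4).all fun c => Nat.beq c c0 || D.bad.any fun e => Nat.beq e.1 m && Nat.beq e.2.1 c &&
    linOK Z e.2.2.1 && Nat.ble (e.2.2.2.1 + 1) 48 && Nat.ble (e.2.2.2.2.1 + 1) 48 && Nat.ble (e.2.2.2.2.2 + 1) 64 &&
    (List.range 64).all (fun x => Nat.beq (lin e.2.2.1 (D.T e.2.2.2.1 x)) (D.T e.2.2.2.2.1 (lin e.2.2.1 x))) &&
    force (mm (D.el.getD e.2.2.2.2.2 0) (D.tab c e.2.2.2.1)) fun x =>
      force (mm (D.el.getD (lin e.2.2.1 e.2.2.2.2.2) 0) (D.tab c e.2.2.2.2.1)) fun y =>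
        Nat.beq (mm x x) oneC && !(Nat.beq x oneC) && !(inK m (cls x) == inK m (cls y))

end Cpl

end Cfsg.Agent.H98.Held
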