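import Cfsg.Agent.H98.Held.Code

/-!
The centraliser of an involution identified with codes of matrices.
-/

set_option autoImplicit false

namespace Cfsg.Agent.H98.Held

open Subgroup

/-- The transvection. -/
noncomputable def sT : Matrix.SpecialLinearGroup (Fin 5) (ZMod 2) :=
  ⟨Matrix.transvection 0 1 1, Matrix.det_transvection_of_ne 0 1 (by decide) 1⟩

/-- The centraliser of the transvection. -/
abbrev C5 : Subgroup (Matrix.SpecialLinearGroup (Fin 5) (ZMod 2)) :=
  centralizer ({sT} : Set (Matrix.SpecialLinearGroup (Fin 5) (ZMod 2)))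

/-- The code of an element of the centraliser. -/
noncomputable def cd (x : C5) : ℕ := code ((x : Matrix.SpecialLinearGroup (Fin 5) (ZMod 2)) : M5)

theorem cd_mul (x y : C5) : cd (x * y) = mm (cd x) (cd y) := by
  simp [cd, code_mul]

theorem cd_one : cd 1 = oneC := by simp [cd, code_one]

theorem cd_inj : Function.Injective cd := fun x y h => by
  refine Subtype.ext (Subtype.ext ?_)
  exact (mt_code _).symm.trans ((congrArg mt h).trans (mt_code _))

theorem isC_cd (x : C5) : isC (cd x) = true := by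
  refine isC_code (x : Matrix.SpecialLinearGroup (Fin 5) (ZMod 2)).2 ?_
  have h := congrArg (fun y : Matrix.SpecialLinearGroup (Fin 5) (ZMod 2) => (y : M5))
    (mem_centralizer_singleton_iff.1 x.2)
  simp only [Matrix.SpecialLinearGroup.coe_mul] at h
  exact h

/-- The code lies in the image. -/
def Gd (a : ℕ) : Prop := ∃ x : C5, cd x = a

/-- The Boolean test, with the inverse as a witness. -/
noncomputable def gdB (a b : ℕ) : Bool :=
  Nat.ble (a + 1) (2 ^ 25) && Nat.beq (mm a b) oneC && Nat.beq (mm a zT) (mm zT a)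

theorem gd_of_gdB {a b : ℕ} (h : gdB a b = true) : Gd a := by
  simp only [gdB, Bool.and_eq_true, Nat.ble_eq, Nat.beq_eq] at h
  obtain ⟨⟨ha, hab⟩, hc⟩ := h
  have h1 : mt a * mt b = 1 := by rw [← mt_mm, hab, mt_one]
  have hd : (mt a).det = 1 := by
    have h2 := congrArg Matrix.det h1
    rw [Matrix.det_mul, Matrix.det_one] at h2
    revert h2
    generalize (mt a).det = p
    generalize (mt b).det = q
    revert p q
    decide
  refine ⟨⟨⟨mt a, hd⟩, mem_centralizer_singleton_iff.2 (Subtype.ext ?_)⟩, code_mt ha⟩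
  have h3 := congrArg mt hc
  rw [mt_mm, mt_mm, mt_zT] at h3
  exact h3

theorem Gd.isC {a : ℕ} (h : Gd a) : isC a = true := by
  obtain ⟨x, rfl⟩ := h
  exact isC_cd x

theorem Gd.mul {a b : ℕ} (ha : Gd a) (hb : Gd b) : Gd (mm a b) := by
  obtain ⟨x, rfl⟩ := ha
  obtain ⟨y, rfl⟩ := hb
  exact ⟨x * y, cd_mul x y⟩

theorem gd_one : Gd oneC := ⟨1, cd_one⟩

theorem gd_zT : Gd zT := gd_of_gdB (b := zT) (by decide +kernel)

/-- An embedding of the centraliser of the transvection onto the centraliser of an involution. -/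
structure Emb (G : Type*) [Group G] where
  z : G
  emb : C5 →* G
  inj : Function.Injective emb
  range : emb.range = centralizer ({z} : Set G)
  z_eq : ∀ x : C5, cd x = zT → emb x = z

namespace Emb

open Classical in
/-- The element of the group with a given code. -/
noncomputable def lf {G : Type*} [Group G] (B : Emb G) (a : ℕ) : G :=
  if h : Gd a then B.emb h.choose else 1

variable {G : Type*} [Group G] (B : Emb G)

theorem lf_cd (x : C5) : B.lf (cd x) = B.emb x := by
  have h : Gd (cd x) := ⟨x, rfl⟩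
  rw [lf, dif_pos h]
  exact congrArg B.emb (cd_inj h.choose_spec)

theorem lf_mul {a b : ℕ} (ha : Gd a) (hb : Gd b) : B.lf (mm a b) = B.lf a * B.lf b := by
  obtain ⟨x, rfl⟩ := ha
  obtain ⟨y, rfl⟩ := hb
  rw [← cd_mul, lf_cd, lf_cd, lf_cd, map_mul]

theorem lf_one : B.lf oneC = 1 := by rw [← cd_one, lf_cd, map_one]

theorem lf_z : B.lf zT = B.z := by
  obtain ⟨x, hx⟩ := gd_zT
  rw [← hx, lf_cd, B.z_eq x hx]

theorem lf_inj {a b : ℕ} (ha : Gd a) (hb : Gd b) (h : B.lf a = B.lf b) : a = b := by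
  obtain ⟨x, rfl⟩ := ha
  obtain ⟨y, rfl⟩ := hb
  rw [lf_cd, lf_cd] at h
  rw [B.inj h]

theorem lf_mem {a : ℕ} (ha : Gd a) : B.lf a ∈ centralizer ({B.z} : Set G) := by
  obtain ⟨x, rfl⟩ := ha
  rw [← B.range, lf_cd]
  exact ⟨x, rfl⟩

theorem lf_comm_z {a : ℕ} (ha : Gd a) : B.lf a * B.z = B.z * B.lf a :=
  mem_centralizer_singleton_iff.1 (B.lf_mem ha)

theorem exists_code {g : G} (hg : g * B.z = B.z * g) : ∃ a, Gd a ∧ B.lf a = g := by
  obtain ⟨x, rfl⟩ := (B.range.ge (mem_centralizer_singleton_iff.2 hg) :)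
  exact ⟨cd x, ⟨x, rfl⟩, B.lf_cd x⟩

theorem lf_eq_one {a : ℕ} (ha : Gd a) : B.lf a = 1 ↔ a = oneC :=
  ⟨fun h => B.lf_inj ha gd_one (h.trans B.lf_one.symm), fun h => h ▸ B.lf_one⟩

theorem lf_sq_one {a : ℕ} (ha : Gd a) : B.lf a * B.lf a = 1 ↔ mm a a = oneC := by
  rw [← B.lf_mul ha ha, B.lf_eq_one (ha.mul ha)]

theorem lf_comm {a b : ℕ} (ha : Gd a) (hb : Gd b) : B.lf a * B.lf b = B.lf b * B.lf a ↔ mm a b = mm b a := by
  rw [← B.lf_mul ha hb, ← B.lf_mul hb ha]
  exact ⟨B.lf_inj (ha.mul hb) (hb.mul ha), congrArg B.lf⟩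

theorem z_sq : B.z * B.z = 1 := by
  rw [← B.lf_z, B.lf_sq_one gd_zT]
  decide +kernel

theorem z_ne : B.z ≠ 1 := by
  rw [← B.lf_z, Ne, B.lf_eq_one gd_zT]
  decide

end Emb

end Cfsg.Agent.H98.Held
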