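import Cfsg.Agent.H98.Held.Compl
import Cfsg.Agent.H67.Held.Setups
import Cfsg.Agent.H95.Held.Specs

/-!
The complements in the labels of the local evaluation.
-/

set_option autoImplicit false
set_option maxRecDepth 100000

namespace Cfsg.Agent.H98.Held

open Subgroup Cfsg.Agent.H67.Held

attribute [local irreducible] mm oneC zT cls lin

universe u

variable {G : Type u} [Group G] {B : Emb G} {L : List ℕ} {co : ℕ → ℕ} {Z : List ℕ}

/-- The lift of the automorphism group moved by a member of the block. -/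
noncomputable def compl (S : Setup B L co Z) (x : ℕ) : Subgroup G :=
  ({ carrier := {g | S.InK g}
     one_mem' := S.inK_one
     mul_mem' := fun ha hb => S.inK_mul ha hb
     inv_mem' := fun ha => S.inK_inv ha } : Subgroup G).map (MulAut.conj (pt B L co x)).toMonoidHom

theorem mem_compl {S : Setup B L co Z} {x : ℕ} (hx : x < 64) {g : G} :
    g ∈ compl S x ↔ ∃ k, S.InK k ∧ g = pt B L co x * k * pt B L co x := by
  simp only [compl, Subgroup.mem_map, Subgroup.mem_mk, MulEquiv.toMonoidHom_eq_coe, MonoidHom.coe_coe,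
    MulAut.conj_apply, pt_inv B S.coord hx]
  exact exists_congr fun k => and_congr_right fun _ => eq_comm

theorem pt_conj {S : Setup B L co Z} {x y : ℕ} (hx : x < 64) (hy : y < 64) :
    pt B L co x * pt B L co y * pt B L co x = pt B L co y := by
  rw [← pt_xor B S.coord hx hy, ← pt_xor B S.coord (xor_lt hx hy) hx]
  congr 1
  rw [Nat.xor_comm x y, Nat.xor_assoc, Nat.xor_self, Nat.xor_zero]

theorem pt_pt {S : Setup B L co Z} {x : ℕ} (hx : x < 64) : pt B L co x * pt B L co x = 1 := by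
  nth_rewrite 1 [← pt_inv B S.coord hx]; exact inv_mul_cancel _

theorem compl_disj {S : Setup B L co Z} {x y : ℕ} (hx : x < 64) (hy : y < 64)
    (h : pt B L co y ∈ compl S x) : y = 0 := by
  obtain ⟨k, hk, e⟩ := (mem_compl hx).1 h
  have hke : k = pt B L co y :=
    calc k = (pt B L co x * pt B L co x) * k * (pt B L co x * pt B L co x) := by
          rw [pt_pt (S := S) hx, one_mul, mul_one]
      _ = pt B L co x * (pt B L co x * k * pt B L co x) * pt B L co x := by simp only [mul_assoc]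
      _ = pt B L co y := by rw [← e, pt_conj (S := S) hx hy]
  subst hke
  refine pt_inj B S.coord hy (by norm_num) ((S.inK_unique hk S.inK_one fun w hw => ?_).trans
    (pt_zero B S.coord).symm)
  rw [act_pt B S.coord hy hw, act_one B S.coord hw]

theorem compl_lift {S : Setup B L co Z} {x : ℕ} (hx : x < 64) {f : ℕ → ℕ} (hf : LinAut Z f) :
    ∃ g ∈ compl S x, g = pt B L co x * S.lift f * pt B L co x ∧
      ∀ y < 64, g * pt B L co y * g⁻¹ = pt B L co (f y) := by
  refine ⟨_, (mem_compl hx).2 ⟨_, (S.lift_spec hf).1, rfl⟩, rfl, fun y hy => ?_⟩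
  rw [mul_inv_rev, mul_inv_rev, pt_inv B S.coord hx]
  calc pt B L co x * S.lift f * pt B L co x * pt B L co y * (pt B L co x * ((S.lift f)⁻¹ * pt B L co x))
      = pt B L co x * (S.lift f * (pt B L co x * pt B L co y * pt B L co x) * (S.lift f)⁻¹) *
          pt B L co x := by simp only [mul_assoc]
    _ = pt B L co (f y) := by
      rw [pt_conj (S := S) hx hy, S.lift_conj hf hy, pt_conj (S := S) hx (hf.lt y hy)]

theorem compl_unique {S : Setup B L co Z} {x : ℕ} (hx : x < 64) {g h : G} (hg : g ∈ compl S x)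
    (hh : h ∈ compl S x)
    (e : ∀ y < 64, g * pt B L co y * g⁻¹ = h * pt B L co y * h⁻¹) : g = h := by
  obtain ⟨k, hk, rfl⟩ := (mem_compl hx).1 hg
  obtain ⟨l, hl, rfl⟩ := (mem_compl hx).1 hh
  congr 2
  refine S.inK_unique hk hl fun y hy => ?_
  have key : ∀ {a : G}, a ∈ normalizer (B.blockGrp L : Set G) →
      pt B L co x * a * pt B L co x * pt B L co y * (pt B L co x * a * pt B L co x)⁻¹ =
        pt B L co (act B L co a y) := by
    intro a ha
    obtain ⟨h1, h2⟩ := act_spec B S.coord ha hy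
    rw [mul_inv_rev, mul_inv_rev, pt_inv B S.coord hx]
    calc pt B L co x * a * pt B L co x * pt B L co y * (pt B L co x * (a⁻¹ * pt B L co x))
        = pt B L co x * (a * (pt B L co x * pt B L co y * pt B L co x) * a⁻¹) * pt B L co x := by
          simp only [mul_assoc]
      _ = pt B L co (act B L co a y) := by
          rw [pt_conj (S := S) hx hy, ← h2, pt_conj (S := S) hx h1]
  have := e y hy
  rw [key hk.1, key hl.1] at this
  exact pt_inj B S.coord (act_spec B S.coord hk.1 hy).1 (act_spec B S.coord hl.1 hy).1 this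

/-- The codes of a table of decompositions lie among the entries of a class. -/
noncomputable def codeOK (D : Cpl) (c0 : ℕ) (d : List (ℕ × ℕ × ℕ)) : Bool :=
  Nat.beq d.length 7 && d.all fun e => (List.range 48).any fun i => Nat.beq (D.tab c0 i) e.2.1

/-- The complement with its exports in labels. -/
structure ComplData (B : Emb G) (L : List ℕ) (co : ℕ → ℕ) (Z : List ℕ) (d : List (ℕ × ℕ × ℕ)) where
  K : Subgroup G
  disj : ∀ a, a < 64 → Cfsg.Agent.H95.Held.lab B L a ∈ K → a = 0
  mem : ∀ l, l < 7 → B.lf (d.getD l (0, oneC, oneC)).2.1 ∈ K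
  real : ∀ f, LinAut Z f → ∃ g ∈ K, ∀ y < 64, g * pt B L co y * g⁻¹ = pt B L co (f y)
  norm : K ≤ normalizer (B.blockGrp L : Set G)
  unique : ∀ g ∈ K, ∀ h ∈ K, (∀ y < 64, g * pt B L co y * g⁻¹ = h * pt B L co y * h⁻¹) → g = h

theorem lab_pt {S : Setup B L co Z} {a : ℕ} (ha : a < 64) :
    Cfsg.Agent.H95.Held.lab B L a = pt B L co (co (L.getD a 0)) ∧ L.getD a 0 ∈ L := by
  have h := Cfsg.Agent.H95.Held.getD_mem64 S.coord.block.len ha
  exact ⟨(pt_co B S.coord h).symm, h⟩

variable {D : Cpl} [Finite G]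

theorem exists_complData (S : Setup B D.L D.co Z) (hg : D.okGen = true) (ht : D.okTree = true)
    (hk : D.okCand = true) (ha : D.okAut Z = true) {m c0 : ℕ} (hmask : D.okMask Z m c0 = true)
    (hm : ∀ k < 8, B.IsZ (rep k) ↔ inK m k = true) {d : List (ℕ × ℕ × ℕ)}
    (hd : codeOK D c0 d = true) (h0 : D.L.getD 0 0 = oneC) :
    Nonempty (ComplData B D.L D.co Z d) := by
  obtain ⟨x, hx, hall⟩ := exists_good S hg ht hk ha hmask hm
  refine ⟨⟨compl S x, fun a haa hmem => ?_, fun l hl => ?_, fun f hf => ?_,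
    fun g hg' => ?_, fun g hg' h hh e => compl_unique hx hg' hh e⟩⟩
  · obtain ⟨e, hL⟩ := lab_pt (S := S) haa
    rw [e] at hmem
    have h2 := compl_disj hx (S.coord.lt _ hL) hmem
    have h3 : D.L.getD a 0 = D.L.getD 0 0 := by
      rw [h0]; exact S.coord.inj _ hL _ S.coord.block.one (h2.trans S.coord.one.symm)
    rw [List.getD_eq_getElem _ _ (by rw [S.coord.block.len]; exact haa),
      List.getD_eq_getElem _ _ (by rw [S.coord.block.len]; norm_num)] at h3
    exact (S.coord.block.nodup.getElem_inj_iff).1 h3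
  · simp only [codeOK, Bool.and_eq_true, List.all_eq_true, List.any_eq_true, List.mem_range,
      Nat.beq_eq] at hd
    obtain ⟨i, hi, e⟩ := hd.2 _ (List.getD_eq_getElem d (0, oneC, oneC) (hd.1 ▸ hl) ▸ List.getElem_mem _)
    obtain ⟨-, he⟩ := hall i hi
    rw [← e, ← he]
    exact (mem_compl hx).2 ⟨_, (S.lift_spec (Cpl.aut_spec ha hi).1).1, rfl⟩
  · obtain ⟨g, hgK, -, hgc⟩ := compl_lift hx (S := S) hf
    exact ⟨g, hgK, hgc⟩
  · obtain ⟨k, hk', rfl⟩ := (mem_compl hx).1 hg'
    exact mul_mem (mul_mem (mem_normalizer_self B S.coord (pt_mem B S.coord hx)) hk'.1)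
      (mem_normalizer_self B S.coord (pt_mem B S.coord hx))

theorem zero_lab : aOne.getD 0 0 = oneC ∧ aTwo.getD 0 0 = oneC := by decide +kernel

theorem codes_ok : codeOK cplOne 0 Cfsg.Agent.H95.Held.L52.dOne = true ∧
    codeOK cplTwo 0 Cfsg.Agent.H95.Held.L52.dTwo = true ∧
    codeOK cplOne 3 Cfsg.Agent.H95.Held.M24.dOne = true ∧
    codeOK cplTwo 0 Cfsg.Agent.H95.Held.M24.dTwo = true ∧
    codeOK cplOne 3 Cfsg.Agent.H95.Held.He.dOne = true ∧
    codeOK cplTwo 3 Cfsg.Agent.H95.Held.He.dTwo = true := by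
  decide +kernel

theorem complA_7 (hm : ∀ k < 8, B.IsZ (rep k) ↔ inK 7 k = true) :
    Nonempty (ComplData B aOne co1 Z21 Cfsg.Agent.H95.Held.L52.dOne) :=
  exists_complData (D := cplOne) (setupA_7 hm) gen_checks.1 gen_checks.2.2.1 cand_one aut_checks.1
    mask_one.1 hm codes_ok.1 zero_lab.1

theorem complB_7 (hm : ∀ k < 8, B.IsZ (rep k) ↔ inK 7 k = true) :
    Nonempty (ComplData B aTwo co2 Z21 Cfsg.Agent.H95.Held.L52.dTwo) :=
  exists_complData (D := cplTwo) (setupB_7 hm) gen_checks.2.1 gen_checks.2.2.2 cand_two aut_checks.2.2.1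
    mask_two.1 hm codes_ok.2.1 zero_lab.2

theorem complA_23 (hm : ∀ k < 8, B.IsZ (rep k) ↔ inK 23 k = true) :
    Nonempty (ComplData B aOne co1 Z21 Cfsg.Agent.H95.Held.M24.dOne) :=
  exists_complData (D := cplOne) (setupA_23 hm) gen_checks.1 gen_checks.2.2.1 cand_one aut_checks.1
    mask_one.2.2.1 hm codes_ok.2.2.1 zero_lab.1

theorem complB_23 (hm : ∀ k < 8, B.IsZ (rep k) ↔ inK 23 k = true) :
    Nonempty (ComplData B aTwo co2 Z45 Cfsg.Agent.H95.Held.M24.dTwo) :=
  exists_complData (D := cplTwo) (setupB_23 hm) gen_checks.2.1 gen_checks.2.2.2 cand_two aut_checks.2.2.2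
    mask_two.2.2.1 hm codes_ok.2.2.2.1 zero_lab.2

theorem complA_31 (hm : ∀ k < 8, B.IsZ (rep k) ↔ inK 31 k = true) :
    Nonempty (ComplData B aOne co1 Z45 Cfsg.Agent.H95.Held.He.dOne) :=
  exists_complData (D := cplOne) (setupA_31 hm) gen_checks.1 gen_checks.2.2.1 cand_one aut_checks.2.1
    mask_one.2.2.2 hm codes_ok.2.2.2.2.1 zero_lab.1

theorem complB_31 (hm : ∀ k < 8, B.IsZ (rep k) ↔ inK 31 k = true) :
    Nonempty (ComplData B aTwo co2 Z45 Cfsg.Agent.H95.Held.He.dTwo) :=
  exists_complData (D := cplTwo) (setupB_31 hm) gen_checks.2.1 gen_checks.2.2.2 cand_two aut_checks.2.2.2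
    mask_two.2.2.2 hm codes_ok.2.2.2.2.2 zero_lab.2

end Cfsg.Agent.H98.Held
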