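import Cfsg.Agent.H98.Held.Code
import Cfsg.Agent.H98.Held.Data

/-!
The sweep over the centraliser of the transvection for involutions and square roots.
-/

set_option autoImplicit false
set_option maxRecDepth 100000

namespace Cfsg.Agent.H98.Held

open Cfsg.Agent.H45 (force)

/-- The involution codes. -/
def invL : List ℕ := invTab.map Prod.fst

/-- Boolean membership of codes. -/
def memN (a : ℕ) (l : List ℕ) : Bool := l.any fun b => Nat.beq b a

theorem sweep_check : ((List.range 65536).all fun k => force (param k) fun p => force (mm p p) fun q =>
    (!(Nat.beq q oneC) || Nat.beq p oneC || memN p invL) && (!(Nat.beq q zT) || memN p rootsZ) &&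
      (!(Nat.beq q (repL.getD 4 0)) || memN p rootsFour) && !(Nat.beq q (repL.getD 5 0))) = true := by
  decide +kernel

end Cfsg.Agent.H98.Held
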