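import Cfsg.Agent.H98.Held.Basic

/-!
The Sylow subgroup and the two normal groups of order 64.
-/

set_option autoImplicit false
set_option linter.style.haveILetI false

namespace Cfsg.Agent.H98.Held

open Subgroup

attribute [local irreducible] mm sParam sIdx oneC zT sGens

theorem card_sl_five : Nat.card (Matrix.SpecialLinearGroup (Fin 5) (ZMod 2)) = 9999360 := by
  have h := Cfsg.Agent.Linear.card_SL_mul (F := ZMod 2) 5 (by norm_num)
  rw [Fin.prod_univ_five, ZMod.card, show (2 : ℕ) - 1 = 1 from rfl, one_mul] at h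
  rw [h]
  rfl

theorem gd_sGens {g : ℕ} (hg : g ∈ sGens) : Gd g ∧ mm g g = oneC := by
  have h := List.all_eq_true.1 s_gens g hg
  refine ⟨gd_of_gdB h, ?_⟩
  simp only [gdB, Bool.and_eq_true, Nat.beq_eq] at h
  exact h.1.2

theorem gd_sParam : ∀ k < 1024, Gd (sParam k) := by
  intro k
  induction k using Nat.strong_induction_on with
  | _ k ih =>
    intro hk
    have h := List.all_eq_true.1 s_reach k (List.mem_range.2 hk)
    simp only [Cfsg.Agent.H45.force_eq, Bool.or_eq_true, Bool.and_eq_true, Nat.beq_eq, Nat.ble_eq] at h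
    rcases h with rfl | ⟨e, hlen⟩
    · rw [s_zero]; exact gd_one
    · rw [← e]
      rcases Nat.eq_zero_or_pos k with rfl | hpos
      · exact Gd.mul (by rw [Nat.zero_sub, s_zero]; exact gd_one) (gd_sGens (by
          rw [List.getD_eq_getElem _ _ (by omega)]; exact List.getElem_mem _)).1
      · refine Gd.mul (ih _ (Nat.sub_lt hpos (Nat.two_pow_pos _)) (lt_of_le_of_lt (Nat.sub_le _ _) hk)) (gd_sGens ?_).1
        rw [List.getD_eq_getElem _ _ (by omega)]
        exact List.getElem_mem _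

namespace Emb

universe u

variable {G : Type u} [Group G] (B : Emb G)

/-- The Sylow subgroup of the centraliser. -/
noncomputable def sg : Subgroup G := Subgroup.closure (B.lf '' {g | g ∈ sGens})

theorem lf_sParam_mem : ∀ k < 1024, B.lf (sParam k) ∈ B.sg := by
  intro k
  induction k using Nat.strong_induction_on with
  | _ k ih =>
    intro hk
    have h := List.all_eq_true.1 s_reach k (List.mem_range.2 hk)
    simp only [Cfsg.Agent.H45.force_eq, Bool.or_eq_true, Bool.and_eq_true, Nat.beq_eq, Nat.ble_eq] at h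
    rcases Nat.eq_zero_or_pos k with rfl | hpos
    · rw [s_zero, B.lf_one]; exact one_mem _
    · obtain ⟨e, hlen⟩ := h.resolve_left (by omega)
      have hg : sGens.getD (Nat.log2 k) 0 ∈ sGens := by
        rw [List.getD_eq_getElem _ _ (by omega)]; exact List.getElem_mem _
      rw [← e, B.lf_mul (gd_sParam _ (lt_of_le_of_lt (Nat.sub_le _ _) hk)) (gd_sGens hg).1]
      exact mul_mem (ih _ (Nat.sub_lt hpos (Nat.two_pow_pos _)) (lt_of_le_of_lt (Nat.sub_le _ _) hk)) (subset_closure ⟨_, hg, rfl⟩)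

theorem mem_sg {x : G} (hx : x ∈ B.sg) : ∃ k < 1024, B.lf (sParam k) = x := by
  refine closure_induction_left (p := fun x _ => ∃ k < 1024, B.lf (sParam k) = x) ?_ ?_ ?_ hx
  · exact ⟨0, by norm_num, by rw [s_zero, B.lf_one]⟩
  · rintro _ ⟨g, hg, rfl⟩ y - ⟨k, hk, rfl⟩
    have h := List.all_eq_true.1 s_closed k (List.mem_range.2 hk)
    simp only [Cfsg.Agent.H45.force_eq, Bool.and_eq_true, List.all_eq_true, Nat.beq_eq, Nat.ble_eq] at h
    obtain ⟨h1, h2⟩ := h.2 g hg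
    exact ⟨_, h1, by rw [h2, B.lf_mul (gd_sGens hg).1 (gd_sParam k hk)]⟩
  · rintro _ ⟨g, hg, rfl⟩ y - ⟨k, hk, rfl⟩
    have h := List.all_eq_true.1 s_closed k (List.mem_range.2 hk)
    simp only [Cfsg.Agent.H45.force_eq, Bool.and_eq_true, List.all_eq_true, Nat.beq_eq, Nat.ble_eq] at h
    obtain ⟨h1, h2⟩ := h.2 g hg
    refine ⟨_, h1, ?_⟩
    rw [h2, B.lf_mul (gd_sGens hg).1 (gd_sParam k hk),
      inv_eq_of_mul_eq_one_right ((B.lf_sq_one (gd_sGens hg).1).2 (gd_sGens hg).2)]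

theorem card_sg : Nat.card B.sg = 2 ^ 10 := by
  show _ = 1024
  rw [← Nat.card_fin 1024]
  refine (Nat.card_congr (Equiv.ofBijective (fun k : Fin 1024 => (⟨B.lf (sParam k), B.lf_sParam_mem k k.2⟩ : B.sg))
    ⟨fun a b e => ?_, fun ⟨x, hx⟩ => ?_⟩)).symm
  · have e' : sParam a = sParam b := B.lf_inj (gd_sParam _ a.2) (gd_sParam _ b.2) (congrArg Subtype.val e)
    have hidx : ∀ k < 1024, sIdx (sParam k) = k := fun k hk => by
      have h := List.all_eq_true.1 s_closed k (List.mem_range.2 hk)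
      rw [Bool.and_eq_true] at h
      exact Nat.eq_of_beq_eq_true h.1
    exact Fin.ext (by rw [← hidx _ a.2, e', hidx _ b.2])
  · obtain ⟨k, hk, rfl⟩ := B.mem_sg hx
    exact ⟨⟨k, hk⟩, rfl⟩

theorem sg_le : B.sg ≤ centralizer ({B.z} : Set G) := by
  rw [sg, closure_le]
  rintro x ⟨g, hg, rfl⟩
  exact B.lf_mem (gd_sGens hg).1

theorem gen_norm {L bas : List ℕ} (hL : Block L) (hbas : bas ⊆ L) (hgen : B.blockGrp L = B.blockGrp bas)
    (hn : ∀ g ∈ sGens, ∀ b ∈ bas, cjC g g b ∈ L) : B.sg ≤ normalizer (B.blockGrp L : Set G) := by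
  rw [sg, closure_le]
  rintro x ⟨g, hg, rfl⟩
  obtain ⟨hgd, hsq⟩ := gd_sGens hg
  have hinv : (B.lf g)⁻¹ = B.lf g := inv_eq_of_mul_eq_one_right ((B.lf_sq_one hgd).2 hsq)
  have hle : B.blockGrp L ≤ (B.blockGrp L).comap (MulAut.conj (B.lf g)).toMonoidHom := by
    refine hgen.le.trans ((closure_le _).2 ?_)
    rintro y ⟨b, hb, rfl⟩
    show B.lf g * B.lf b * (B.lf g)⁻¹ ∈ B.blockGrp L
    rw [← B.lf_cj hgd hgd hsq (hL.sq b (hbas hb)).1]
    exact (B.mem_blockGrp hL).2 ⟨_, hn g hg b hb, rfl⟩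
  refine mem_normalizer_iff.2 fun y => ?_
  refine ⟨fun hy => (hle hy : B.lf g * y * (B.lf g)⁻¹ ∈ B.blockGrp L), fun hy => ?_⟩
  have h1 : B.lf g * (B.lf g * y * (B.lf g)⁻¹) * (B.lf g)⁻¹ ∈ B.blockGrp L := hle hy
  rw [show B.lf g * (B.lf g * y * (B.lf g)⁻¹) * (B.lf g)⁻¹ =
    B.lf g * B.lf g * y * ((B.lf g)⁻¹ * (B.lf g)⁻¹) by group, hinv, (B.lf_sq_one hgd).2 hsq, one_mul, mul_one] at h1
  exact h1

end Emb

end Cfsg.Agent.H98.Held
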